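import Cfsg.Agent.Lib.PSL2.ThreeSizes.Basic
import Cfsg.Agent.Lib.PSL2.PGLHom
import Cfsg.Agent.Lib.ClassSize.OneSize
import Cfsg.Agent.Lib.CharInt.Kazarin
import Cfsg.Agent.Lib.PrimeGraph.ThreePrimes
import Cfsg.Agent.Lib.OrderFive.Basic
import Cfsg.Agent.S2202
import Cfsg.Agent.S0205

/-!
# Tools for groups with trivial centre and three nontrivial class sizes

Radical, Kazarin's criterion, one class size, commutative involution centralisers, and the criterion
for fixed point free involutions.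
-/

set_option autoImplicit false
set_option linter.style.haveILetI false
set_option linter.unusedSectionVars false

namespace Cfsg.Agent.ClassSize.CentrelessThree

open Subgroup Cfsg.Agent Cfsg.Agent.ClassSize.CoprimeTop
open scoped MatrixGroups

universe u

variable {G : Type u} [Group G] [Finite G]

/-- The conclusion. -/
def Concl (G : Type u) [Group G] : Prop :=
  Group.IsSolvable G ∨ ∃ a : ℕ, 0 < a ∧
    Nonempty (G ≃* Matrix.ProjectiveSpecialLinearGroup (Fin 2) (GaloisField 2 a))

/-- The solvable radical. -/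
theorem exists_radical (G : Type u) [Group G] [Finite G] : ∃ R : Subgroup G, R.Normal ∧
    Group.IsSolvable R ∧ ∀ N : Subgroup G, N.Normal → Group.IsSolvable N → N ≤ R := by
  classical
  let S : Set (Subgroup G) := {N | N.Normal ∧ Group.IsSolvable N}
  have hne : S.Nonempty := ⟨⊥, inferInstance, inferInstance⟩
  obtain ⟨R, hR, hmax⟩ := (Set.toFinite S).exists_maximalFor (fun N : Subgroup G => Nat.card N) S hne
  refine ⟨R, hR.1, hR.2, fun N hN hNs => ?_⟩
  haveI := hR.1
  haveI := hR.2
  haveI := hN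
  haveI := hNs
  have hsup : Group.IsSolvable ↥(R ⊔ N) :=
    PrimeGraph.isSolvable_sup_of_le_normalizer R N le_normalizer_of_normal
  have hle := hmax (j := R ⊔ N) ⟨inferInstance, hsup⟩ (Subgroup.card_le_of_le le_sup_left)
  have := Subgroup.eq_of_le_of_card_ge (le_sup_left : R ≤ R ⊔ N) hle
  exact le_sup_right.trans this.ge

/-- Solvable normal subgroup and solvable quotient. -/
theorem solvable_of_quot {G : Type u} [Group G] (N : Subgroup G) [N.Normal] (hN : Group.IsSolvable N)
    (hQ : Group.IsSolvable (G ⧸ N)) : Group.IsSolvable G := by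
  haveI := hN; haveI := hQ
  exact Group.isSolvable_of_ker_le_range N.subtype (QuotientGroup.mk' N)
    (by rw [QuotientGroup.ker_mk', Subgroup.range_subtype])

theorem quot_solvable_of_sup {H N : Subgroup G} [N.Normal] (hH : Group.IsSolvable H)
    (h : ∀ g : G, ∃ n ∈ N, ∃ a ∈ H, g = n * a) : Group.IsSolvable (G ⧸ N) := by
  haveI := hH
  refine Group.isSolvable_of_surjective (f := (QuotientGroup.mk' N).comp H.subtype) fun q => ?_
  obtain ⟨g, rfl⟩ := QuotientGroup.mk'_surjective N q
  obtain ⟨n, hn, a, ha, rfl⟩ := h g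
  refine ⟨⟨a, ha⟩, ?_⟩
  show QuotientGroup.mk' N a = QuotientGroup.mk' N (n * a)
  rw [map_mul, show QuotientGroup.mk' N n = 1 from (QuotientGroup.eq_one_iff n).2 hn, one_mul]

/-- A class of prime power size lies in the radical. -/
theorem mem_radical_of_class {R : Subgroup G}
    (hR : ∀ N : Subgroup G, N.Normal → Group.IsSolvable N → N ≤ R) {x : G} {p a : ℕ} (hp : p.Prime)
    (h : cl x = p ^ a) : x ∈ R :=
  hR (normalClosure ({x} : Set G)) normalClosure_normal
    (CharInt.isSolvable_normalClosure_of_class_prime_pow (Nat.card G) le_rfl x hp ⟨a, h⟩)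
    (subset_normalClosure rfl)

/-- Elements outside `p` with class sizes powers of `p`. -/
theorem solvable_of_primary (p : ℕ) (hp : p.Prime)
    (h : ∀ (x : G) (q k : ℕ), q.Prime → q ≠ p → orderOf x = q ^ k → ∃ a, cl x = p ^ a) :
    Group.IsSolvable G := by
  haveI := Fact.mk hp
  obtain ⟨R, hRn, hRs, hR⟩ := exists_radical G
  refine solvable_of_quot R hRs ?_
  haveI : Group.IsNilpotent (G ⧸ R) := IsPGroup.isNilpotent (p := p) fun q => by
    obtain ⟨g, rfl⟩ := QuotientGroup.mk'_surjective R q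
    obtain ⟨a, b, -, -, hab, hcomm, -, hpa, hbp⟩ := exists_split p g
    obtain ⟨k, hk⟩ : ∃ k, orderOf a = p ^ k := ⟨_, Nat.eq_prime_pow_of_unique_prime_dvd
      (orderOf_pos a).ne' fun {d} hd hda => (Nat.prime_dvd_prime_iff_eq hd hp).1 (hpa d hd hda)⟩
    refine ⟨k, ?_⟩
    rw [← map_pow, hab, (show Commute a b from hcomm).mul_pow, ← hk, pow_orderOf_eq_one, one_mul]
    refine (QuotientGroup.eq_one_iff _).2 (pow_mem ?_ _)
    by_contra hbR
    obtain ⟨s, i, y, hs, hsb, -, hy, hyR⟩ := PrimeParts.exists_part_not_mem hbR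
    have hsp : s ≠ p := fun e => hs.ne_one
      (Nat.eq_one_of_dvd_coprimes hbp hsb (e ▸ dvd_rfl))
    obtain ⟨c, hc⟩ := h y s i hs hsp hy
    exact hyR (mem_radical_of_class hR hp hc)
  infer_instance

/-- Only one class size besides `1`. -/
theorem solvable_of_one_size {n : ℕ} (h : ∀ x : G, cl x = 1 ∨ cl x = n) : Group.IsSolvable G := by
  by_cases hall : ∀ x : G, x ∈ center G
  · exact Group.isSolvable_of_comm fun a b => mem_center_iff.1 (hall b) a
  push Not at hall
  obtain ⟨x₀, hx₀⟩ := hall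
  have hn : cl x₀ = n := OneSize.cl_eq h hx₀
  have hn1 : n ≠ 1 := fun e => hx₀ (cl_eq_one.1 (hn.trans e))
  have hn0 : 0 < n := hn ▸ cl_pos x₀
  set p := n.minFac with hp'
  have hp : p.Prime := Nat.minFac_prime hn1
  haveI := Fact.mk hp
  have huniq : ∀ {t : ℕ}, t.Prime → t ∣ n → t = p := fun {t} ht htn => by
    by_contra hne
    haveI := Fact.mk ht
    exact OneSize.not_two_primes h (by omega) htn n.minFac_dvd hne hx₀
  refine solvable_of_primary p hp fun x q k hq hqp hx => ⟨0, ?_⟩
  haveI := Fact.mk hq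
  rw [pow_zero, cl_eq_one]
  exact OneSize.mem_center_of_not_dvd h (fun e => hqp (huniq hq e)) hx

/-- Groups with trivial centre in which all involution centralisers are commutative. -/
theorem concl_of_abelian_invol (hZ : center G = ⊥) (h2 : 2 ∣ Nat.card G)
    (h : ∀ t : G, orderOf t = 2 → ∀ x ∈ cent t, ∀ y ∈ cent t, x * y = y * x) : Concl G := by
  classical
  haveI : Fact (Nat.Prime 2) := ⟨Nat.prime_two⟩
  rcases S2202.result (even_iff_two_dvd.2 h2)
    (fun t ht => ⟨⟨fun x y => Subtype.ext (h t ht x x.2 y y.2)⟩⟩) with hc | hn | hS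
  · left
    obtain ⟨T⟩ := (inferInstance : Nonempty (Sylow 2 G))
    have hmin : (Nat.card G).minFac = 2 := (Nat.minFac_eq_two_iff _).2 h2
    have hT := hc T
    set f := MonoidHom.transferSylow T (hT.normalizer_le_centralizer hmin) with hf
    have hnd := MonoidHom.not_dvd_card_ker_transferSylow T (hT.normalizer_le_centralizer hmin)
    rw [← hf] at hnd
    haveI : Group.IsSolvable f.ker := S0205.result (Nat.odd_iff.2 (by omega))
    haveI : Group.IsSolvable (T : Subgroup G) := by
      haveI := hT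
      exact Group.isSolvable_of_comm fun a b => (IsCyclic.commGroup (α := (T : Subgroup G))).mul_comm a b
    exact Group.isSolvable_of_ker_le_range f.ker.subtype f (by rw [Subgroup.range_subtype])
  · left
    obtain ⟨T⟩ := (inferInstance : Nonempty (Sylow 2 G))
    haveI := hn T
    haveI : Group.IsNilpotent (T : Subgroup G) := T.isPGroup'.isNilpotent
    refine solvable_of_quot (T : Subgroup G) inferInstance (S0205.result ?_)
    rw [← index_eq_card, Nat.odd_iff]
    have := T.not_dvd_index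
    omega
  · obtain ⟨F, iF, iFf, A, iA, iAf, hF, -, ⟨e⟩⟩ := hS
    right
    haveI := hF
    haveI : Subsingleton A := ⟨fun a b => by
      have h1 : ∀ a : A, a = 1 := fun a => by
        have h1 : e.symm (1, a) ∈ center G := mem_center_iff.2 fun g => e.injective (by
          rw [map_mul, map_mul, MulEquiv.apply_symm_apply]
          exact Prod.ext (by simp) (mul_comm _ _))
        rw [hZ, mem_bot, map_eq_one_iff _ e.symm.injective] at h1
        exact congrArg Prod.snd h1
      rw [h1 a, h1 b]⟩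
    haveI : Unique A := uniqueOfSubsingleton 1
    let φ : G ≃* SL(2, F) := e.trans
      { toFun := Prod.fst, invFun := fun x => (x, 1),
        left_inv := fun x => Prod.ext rfl (Subsingleton.elim _ _), right_inv := fun _ => rfl,
        map_mul' := fun _ _ => rfl }
    let ψ : G ≃* PSL(2, F) := φ.trans (MulEquiv.ofBijective PSL2.mk ⟨fun x y hxy => by
      rcases PSL2.mk_eq_mk.1 hxy with h1 | h1
      · exact h1
      · refine h1.trans ?_
        ext i j; simp [CharTwo.neg_eq], PSL2.mk_surjective⟩)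
    obtain ⟨m, -, hm⟩ := FiniteField.card F 2
    haveI := Fintype.ofFinite (GaloisField 2 (m : ℕ))
    refine ⟨m, m.pos, ⟨ψ.trans (PSL2.pslCongr (FiniteField.ringEquivOfCardEq ?_))⟩⟩
    rw [hm, ← Nat.card_eq_fintype_card, GaloisField.card 2 m m.pos.ne']

/-- Without proper inclusions at 2-elements, involution centralisers are commutative. -/
theorem comm_of_squares
    (hsq : ∀ u : G, (∃ k, orderOf u = 2 ^ k) → u ^ 2 ≠ 1 → cent u = cent (u ^ 2))
    (hodd : ∀ t v : G, orderOf t = 2 → v ∈ cent t → (orderOf v).Coprime 2 → cent t ≤ cent v)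
    {t : G} (ht : orderOf t = 2) : ∀ x ∈ cent t, ∀ y ∈ cent t, x * y = y * x := by
  haveI : Fact (Nat.Prime 2) := ⟨Nat.prime_two⟩
  refine ThreeSizes.cent_comm_of (fun T => ThreeSizes.sylow_two_comm T fun u hu => hsq u ?_)
    fun v hv hv2 w hw => mem_cent.1 (hodd t v ht hv hv2 hw)
  obtain ⟨k, hk⟩ := (IsPGroup.iff_orderOf.1 T.isPGroup') ⟨u, hu⟩
  exact ⟨k, by rw [← hk, Subgroup.orderOf_mk]⟩

/-- If all involutions act fixed point freely on a nontrivial normal subgroup and one involution
centraliser is solvable, the group is solvable. -/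
theorem solvable_of_fpf_invol {Y : Subgroup G} [Y.Normal] (hY : Y ≠ ⊥)
    (hfix : ∀ s : G, orderOf s = 2 → ∀ y ∈ Y, s * y = y * s → y = 1) {t : G} (ht : orderOf t = 2)
    (hct : Group.IsSolvable (cent t)) : Group.IsSolvable G := by
  set C := centralizer (Y : Set G) with hC
  haveI : C.Normal := inferInstance
  have hCodd : Odd (Nat.card C) := by
    rw [Nat.odd_iff]
    by_contra hne
    haveI : Fact (Nat.Prime 2) := ⟨Nat.prime_two⟩
    obtain ⟨s, hs⟩ := exists_prime_orderOf_dvd_card' (G := C) 2 (by omega)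
    obtain ⟨⟨y, hy⟩, hy0⟩ := Subgroup.ne_bot_iff_exists_ne_one.1 hY
    have hy1 : y ≠ 1 := fun e => hy0 (Subtype.ext e)
    exact hy1 (hfix (s : G) (by rwa [Subgroup.orderOf_coe]) y hy
      (mem_centralizer_iff.1 s.2 y hy).symm)
  refine solvable_of_quot C (S0205.result hCodd) (quot_solvable_of_sup hct fun g => ?_)
  have hsq : ∀ {s : G}, orderOf s = 2 → s * s = 1 := fun hs => by
    rw [← pow_two, ← hs, pow_orderOf_eq_one]
  have hinv : ∀ {s : G}, orderOf s = 2 → ∀ y ∈ Y, s * y * s⁻¹ = y⁻¹ := fun {s} hs =>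
    OrderFive.inverts_of_fpf (hsq hs) (fun c hc => (inferInstance : Y.Normal).conj_mem c hc s)
      fun c hc e => hfix s hs c hc (mul_inv_eq_iff_eq_mul.1 e)
  set s := g * t * g⁻¹ with hsdef
  have hs : orderOf s = 2 := by
    rw [hsdef, show g * t * g⁻¹ = MulAut.conj g t from (MulAut.conj_apply g t).symm,
      MulEquiv.orderOf_eq, ht]
  set d := t * s with hd
  have hdC : d ∈ C := mem_centralizer_iff.2 fun y hy => by
    have h1 : d * y * d⁻¹ = y := by
      rw [hd, show t * s * y * (t * s)⁻¹ = t * (s * y * s⁻¹) * t⁻¹ by group, hinv hs y hy,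
        hinv ht _ (inv_mem hy), inv_inv]
    exact (mul_inv_eq_iff_eq_mul.1 h1).symm
  have hti : t⁻¹ = t := inv_eq_of_mul_eq_one_right (hsq ht)
  have hsi : s⁻¹ = s := inv_eq_of_mul_eq_one_right (hsq hs)
  obtain ⟨j, hj⟩ : ∃ j, orderOf d = 2 * j + 1 :=
    hCodd.of_dvd_nat (Subgroup.orderOf_dvd_natCard C hdC)
  have hdt : t * d * t⁻¹ = d⁻¹ := by
    rw [hd, mul_inv_rev, hsi, hti]
    rw [← mul_assoc, hsq ht, one_mul]
  have hstd : s = d⁻¹ * t := by
    rw [hd, mul_inv_rev, hsi, inv_mul_cancel_right]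
  have hpow : t * d ^ j * t⁻¹ = (d ^ j)⁻¹ := by rw [← conj_pow, hdt, inv_pow]
  have he : d ^ j * t * (d ^ j)⁻¹ = s := by
    rw [hstd, ← hpow, show d ^ j * t * (t * d ^ j * t⁻¹) = d ^ j * (t * t) * d ^ j * t⁻¹ by group,
      hsq ht, mul_one, hti, ← pow_add]
    congr 1
    refine eq_inv_of_mul_eq_one_left ?_
    rw [← pow_succ, show j + j + 1 = orderOf d by omega, pow_orderOf_eq_one]
  refine ⟨d ^ j, pow_mem hdC j, (d ^ j)⁻¹ * g, ?_, by rw [mul_inv_cancel_left]⟩
  refine mem_cent.2 ?_
  calc t * ((d ^ j)⁻¹ * g) = (d ^ j)⁻¹ * (d ^ j * t * (d ^ j)⁻¹) * g := by group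
    _ = (d ^ j)⁻¹ * g * t := by rw [he, hsdef]; group

end Cfsg.Agent.ClassSize.CentrelessThree
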