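import Cfsg.Agent.Lib.ClassSize.CentrelessThree.Ctx
import Cfsg.Agent.Lib.Balance.CharP
import Cfsg.Agent.Lib.Solvable.Basic
import Cfsg.Agent.Lib.Solvable.Kegel
import Cfsg.Agent.Lib.PComplement.FixedPointFree

/-!
# Coprime maximal centraliser orders
-/

set_option autoImplicit false
set_option linter.style.haveILetI false
set_option linter.unusedSectionVars false
set_option maxHeartbeats 1000000

namespace Cfsg.Agent.ClassSize.CentrelessThree

open Subgroup Cfsg.Agent Cfsg.Agent.ClassSize.CoprimeTop Cfsg.Agent.ThreeSizes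

universe u

variable {G : Type u} [Group G] [Finite G]

theorem le_of_coprime_index {M H : Subgroup G} [M.Normal] (h : (Nat.card M).Coprime H.index) :
    M ≤ H :=
  relIndex_eq_one.1 (Nat.eq_one_of_dvd_coprimes h (index_dvd_card (H.subgroupOf M))
    (PrimeParts.relIndex_dvd_index_of_normal' H M))

namespace Ctx

variable {c₁ c₂ c₃ : ℕ} (X : Ctx G c₁ c₂ c₃) (h1 : c₂.Coprime c₃)
include X h1

theorem card_eq : Nat.card G = c₂ * c₃ := by rw [← X.hlcm, h1.lcm_eq_mul]

theorem cl_two {a : G} (ha : co a = c₂) : cl a = c₃ := by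
  have := co_mul_cl a
  rw [ha, X.card_eq h1] at this
  exact Nat.eq_of_mul_eq_mul_left X.pos₂ this

theorem cl_three {b : G} (hb : co b = c₃) : cl b = c₂ := by
  have := co_mul_cl b
  rw [hb, X.card_eq h1, mul_comm c₂ c₃] at this
  exact Nat.eq_of_mul_eq_mul_left X.pos₃ this

theorem type_three {v : G} (hv : v ≠ 1) {r : ℕ} (hr : r.Prime) (hrv : r ∣ orderOf v) (hr3 : r ∣ c₃) :
    co v = c₃ := by
  have hrco : r ∣ co v := hrv.trans (orderOf_dvd_co v)
  have hnd : ¬ r ∣ c₂ := fun h => hr.not_dvd_one (h1.gcd_eq_one ▸ Nat.dvd_gcd h hr3)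
  rcases X.htype v hv with h | h | h
  · exact absurd ((h ▸ hrco).trans X.hd) hnd
  · exact absurd (h ▸ hrco) hnd
  · exact h

theorem type_three_of_mem {b : G} (hb : co b = c₃) {v : G} (hv : v ∈ cent b) (hv1 : v ≠ 1) :
    co v = c₃ := by
  obtain ⟨r, hr, hrv⟩ := Nat.exists_prime_and_dvd (fun e => hv1 (orderOf_eq_one_iff.1 e))
  exact X.type_three h1 hv1 hr hrv (hrv.trans (hb ▸ Subgroup.orderOf_dvd_natCard _ hv))

/-- Elements of order prime to `c₃` are not of type 3. -/
theorem ne_three_of_coprime {v : G} (hv : v ≠ 1) (hco : (orderOf v).Coprime c₃) : co v ≠ c₃ :=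
  fun h => hv (orderOf_eq_one_iff.1
    (Nat.eq_one_of_dvd_coprimes hco dvd_rfl (h ▸ orderOf_dvd_co v)))

/-- If `c₃` is not a prime power, primary elements of type 3 have self-centralising centralisers. -/
theorem selfCent (hnp : ∀ p k : ℕ, p.Prime → c₃ ≠ p ^ k) {b : G} (hb1 : b ≠ 1) (hb : co b = c₃)
    (hprim : ∃ p i, p.Prime ∧ orderOf b = p ^ i) : OddOrder.IsSelfCent (cent b) := by
  obtain ⟨p, i, hp, hbp⟩ := hprim
  have hcop' : ∀ x y : G, x ∈ cent b → y ∈ cent b → x ∈ cent y → x ≠ 1 → y ≠ 1 →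
      (orderOf x).Coprime (orderOf y) → cent x = cent y := by
    intro x y hx hy hxy hx1 hy1 hc
    have hcm : x * y = y * x := (mem_cent.1 hxy).symm
    have hinf := cent_mul_coprime hcm hc
    have h3 : co (x * y) = c₃ :=
      X.type_three_of_mem h1 hb (mul_mem hx hy) (mul_ne_one_of_coprime hx1 hcm hc)
    have e1 := eq_of_co (hinf.le.trans inf_le_left) (h3.trans (X.type_three_of_mem h1 hb hx hx1).symm)
    have e2 := eq_of_co (hinf.le.trans inf_le_right) (h3.trans (X.type_three_of_mem h1 hb hy hy1).symm)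
    exact e1.symm.trans e2
  obtain ⟨j, M, hM, hj⟩ := Nat.exists_eq_pow_mul_and_not_dvd X.pos₃.ne' p hp.ne_one
  have hM1 : M ≠ 1 := fun e => hnp p j hp (by rw [hj, e, mul_one])
  obtain ⟨r, hr, hrM⟩ := Nat.exists_prime_and_dvd hM1
  have hrp : r ≠ p := fun e => hM (e ▸ hrM)
  haveI := Fact.mk hr
  obtain ⟨w, hw⟩ := exists_prime_orderOf_dvd_card' r (G := cent b) (by
    change r ∣ co b; rw [hb, hj]; exact hrM.mul_left _)
  have hw' : orderOf (w : G) = r := by rw [Subgroup.orderOf_coe, hw]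
  have hw1 : (w : G) ≠ 1 := fun e => by rw [e, orderOf_one] at hw'; exact hr.ne_one hw'.symm
  have hwb : cent (w : G) = cent b := hcop' _ _ w.2 (self_mem_cent b) w.2 hw1 hb1
    (by rw [hw', hbp]; exact Nat.Coprime.pow_right _ ((Nat.coprime_primes hr hp).2 hrp))
  intro v hv hv1
  obtain ⟨q, hq, hqv⟩ := Nat.exists_prime_and_dvd (fun e => hv1 (orderOf_eq_one_iff.1 e))
  obtain ⟨y, y', hy, -, hvy, -, -, hqy, hyq⟩ := exists_split q v
  have hy1 : y ≠ 1 := by
    rintro rfl
    rw [one_mul] at hvy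
    rw [hvy] at hqv
    exact hq.not_dvd_one (hyq.gcd_eq_one ▸ Nat.dvd_gcd hqv dvd_rfl)
  have hyb : y ∈ cent b := (Subgroup.zpowers_le.2 hv) hy
  have hyv : cent v = cent y := X.eq_of_max hy1 (cent_le_of_mem_zpowers hy)
    (Or.inr (X.type_three_of_mem h1 hb hv hv1))
  obtain ⟨k, hk⟩ := exists_pow_of_parts hq hqy
  show cent v = cent b
  rw [hyv]
  by_cases hqp : q = p
  · rw [← hwb]
    exact hcop' y w hyb w.2 (by rw [hwb]; exact hyb) hy1 hw1
      (by rw [hk, hw', hqp]; exact Nat.Coprime.pow_left _ ((Nat.coprime_primes hp hr).2 hrp.symm))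
  · exact hcop' y b hyb (self_mem_cent b) hyb hy1 hb1
      (by rw [hk, hbp]; exact Nat.Coprime.pow _ _ ((Nat.coprime_primes hq hp).2 hqp))

/-- The case `c₃` even. -/
theorem concl_of_even (h2 : 2 ∣ c₃) : Concl G := by
  classical
  haveI : Fact (Nat.Prime 2) := ⟨Nat.prime_two⟩
  have h2G : 2 ∣ Nat.card G := by rw [X.card_eq h1]; exact h2.mul_left _
  have ht3 : ∀ t : G, orderOf t = 2 → t ≠ 1 ∧ co t = c₃ := fun t ht => by
    have ht1 : t ≠ 1 := fun e => by rw [e, orderOf_one] at ht; omega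
    exact ⟨ht1, X.type_three h1 ht1 Nat.prime_two (ht ▸ dvd_rfl) h2⟩
  by_cases hnp : ∀ p k : ℕ, p.Prime → c₃ ≠ p ^ k
  · refine concl_of_abelian_invol X.hZ h2G fun t ht x hx y hy => ?_
    exact (X.selfCent h1 hnp (ht3 t ht).1 (ht3 t ht).2 ⟨2, 1, Nat.prime_two, by rw [pow_one, ht]⟩).comm hx hy
  left
  push Not at hnp
  obtain ⟨p, k, hp, hk⟩ := hnp
  obtain rfl : 2 = p := (Nat.prime_dvd_prime_iff_eq Nat.prime_two hp).1
    (Nat.prime_two.dvd_of_dvd_pow (hk ▸ h2))
  obtain ⟨x₂, hx₂, hx₂c⟩ := X.ex₂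
  obtain ⟨a, q, i, ha1, ha, hq, hoa⟩ := X.exists_primary (Or.inl rfl) hx₂ hx₂c
  haveI := Fact.mk hq
  obtain ⟨R, hRn, hRs, hR⟩ := exists_radical G
  haveI := hRn
  have haR : a ∈ R := mem_radical_of_class hR Nat.prime_two ((X.cl_two h1 ha).trans hk)
  have hqa : q ∣ orderOf a := pow_pos_of_ne ha1 hoa
  have hq2 : q ≠ 2 := fun e => Nat.prime_two.not_dvd_one (h1.gcd_eq_one ▸
    Nat.dvd_gcd (e ▸ hqa.trans (ha ▸ orderOf_dvd_co a)) h2)
  obtain ⟨S⟩ := (inferInstance : Nonempty (Sylow q R))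
  set Y := (S : Subgroup R).map R.subtype with hY
  have hYp : IsPGroup q Y := S.2.map _
  have hY1 : Y ≠ ⊥ := by
    rw [hY, Ne, map_eq_bot_iff_of_injective _ R.subtype_injective]
    exact S.ne_bot_of_dvd_card (hqa.trans (Subgroup.orderOf_dvd_natCard R haR))
  set M := normalizer (Y : Set G) with hM
  have hsup : M ⊔ R = ⊤ := Sylow.normalizer_sup_eq_top S
  have hMs : Group.IsSolvable M := by
    by_cases hM2 : 2 ∣ Nat.card M
    swap
    · exact S0205.result (Nat.odd_iff.2 (by omega))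
    obtain ⟨t, ht⟩ := exists_prime_orderOf_dvd_card' (G := M) 2 hM2
    haveI : (Y.subgroupOf M).Normal := (normal_subgroupOf_iff_le_normalizer le_normalizer).2 le_rfl
    refine solvable_of_fpf_invol (Y := Y.subgroupOf M) ?_ (fun s hs y hy hsy => ?_) ht ?_
    · rw [Ne, subgroupOf_eq_bot, disjoint_iff, inf_eq_left.2 le_normalizer]
      exact hY1
    · have hs' : orderOf (s : G) = 2 := by rwa [Subgroup.orderOf_coe]
      obtain ⟨l, hl⟩ := IsPGroup.iff_orderOf.1 hYp ⟨(y : G), mem_subgroupOf.1 hy⟩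
      rw [Subgroup.orderOf_mk] at hl
      have hmem : (y : G) ∈ cent (s : G) := mem_cent.2 (congrArg Subtype.val hsy)
      have h := Subgroup.orderOf_dvd_natCard _ hmem
      change _ ∣ co (s : G) at h
      rw [(ht3 _ hs').2, hk, hl] at h
      have he : orderOf (y : G) = 1 := by
        rw [hl]
        exact Nat.eq_one_of_dvd_coprimes
          (Nat.Coprime.pow l k ((Nat.coprime_primes hq Nat.prime_two).2 hq2)) dvd_rfl h
      exact Subtype.ext (orderOf_eq_one_iff.1 he)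
    · have hp2 : IsPGroup 2 (cent (t : G)) := IsPGroup.of_card (n := k)
        ((ht3 _ (by rwa [Subgroup.orderOf_coe])).2.trans hk)
      haveI : Group.IsNilpotent (cent (t : G)) := hp2.isNilpotent
      refine Group.isSolvable_of_isSolvable_injective
        (f := (M.subtype.comp (cent t).subtype).codRestrict (cent (t : G)) fun v =>
          mem_cent.2 (congrArg Subtype.val (mem_cent.1 v.2))) fun u v huv => ?_
      exact Subtype.ext (Subtype.ext (congrArg (fun w : cent (t : G) => (w : G)) huv :))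
  refine solvable_of_quot R hRs (quot_solvable_of_sup hMs fun g => ?_)
  have hg : g ∈ ((R ⊔ M : Subgroup G) : Set G) := by rw [sup_comm, hsup]; exact mem_top g
  rw [normal_mul] at hg
  obtain ⟨n, hn, m, hm, e⟩ := hg
  exact ⟨n, hn, m, hm, e.symm⟩

/-- The involution centraliser has trivial core, and there is a solvable normal subgroup. -/
theorem solvable_of_core_bot (hodd3 : ¬ 2 ∣ c₃) {z : G} (hz : orderOf z = 2) (hzc : co z = c₂)
    (hcore : (cent z).normalCore = ⊥) : Group.IsSolvable G := by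
  classical
  have hz1 : z ≠ 1 := fun e => by rw [e, orderOf_one] at hz; omega
  obtain ⟨x₃, hx₃, hx₃c⟩ := X.ex₃
  obtain ⟨R, hRn, hRs, hR⟩ := exists_radical G
  haveI := hRn
  by_cases hRbot : R = ⊥
  · exfalso
    obtain ⟨b, q, j, hb1, hb, hq, hob⟩ := X.exists_primary (Or.inr rfl) hx₃ hx₃c
    have hnp : ∀ p k : ℕ, p.Prime → c₃ ≠ p ^ k := fun p k hp hpk => hz1 (by
      have := mem_radical_of_class hR hp ((X.cl_two h1 hzc).trans hpk)
      rwa [hRbot, mem_bot] at this)
    have hsc := X.selfCent h1 hnp hb1 hb ⟨q, j, hq, hob⟩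
    have hab : ∀ N : Subgroup G, N.Normal → (∀ x ∈ N, ∀ y ∈ N, x * y = y * x) → N = ⊥ :=
      fun N hN hcomm => eq_bot_iff.2 (hRbot ▸ hR N hN
        (Group.isSolvable_of_comm fun a b => Subtype.ext (hcomm a a.2 b b.2)))
    have hO : oddCore G = ⊥ := eq_bot_iff.2
      (hRbot ▸ hR (oddCore G) inferInstance (S0205.result PCore.odd_card_oddCore))
    haveI := Fintype.ofFinite G
    refine false_of_regular_of_core hcore (three_le_rank_of_core hO X.hZ hab hz) hsc
      (fun hn => hb1 ?_) ?_ ?_ ?_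
    · have := hab _ hn (fun x hx y hy => hsc.comm hx hy)
      exact mem_bot.1 (this ▸ self_mem_cent b)
    · change (co z).Coprime (co b)
      rw [hzc, hb]; exact h1
    · change co z * co b = _
      rw [hzc, hb, X.card_eq h1]
    · intro p k hp
      change co b ≠ _
      rw [hb]; exact hnp p k hp
  obtain ⟨P, r, hPn, -, hP1, -, -, hr, hPr⟩ := Solvable.exists_abelian_minimal_normal hRs hRbot
  haveI := hPn
  haveI := Fact.mk hr
  have hr3 : r ∣ c₃ := by
    by_contra hnd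
    refine hP1 (eq_bot_iff.2 ?_)
    rw [← hcore]
    refine normal_le_normalCore.2 (le_of_coprime_index ?_)
    obtain ⟨n, hn⟩ := IsPGroup.iff_card.1 hPr
    rw [hn, show (cent z).index = c₃ from X.cl_two h1 hzc]
    exact (hr.coprime_iff_not_dvd.2 hnd).pow_left n
  have hP3 : ∀ y ∈ P, y ≠ 1 → co y = c₃ := by
    intro y hy hy1
    obtain ⟨l, hl⟩ := IsPGroup.iff_orderOf.1 hPr ⟨y, hy⟩
    rw [Subgroup.orderOf_mk] at hl
    exact X.type_three h1 hy1 hr (pow_pos_of_ne hy1 hl) hr3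
  have hfix : ∀ s : G, orderOf s = 2 → ∀ y ∈ P, s * y = y * s → y = 1 := by
    intro s hs y hy hsy
    by_contra hy1
    have h := Subgroup.orderOf_dvd_natCard (cent y) (mem_cent.2 hsy.symm : s ∈ cent y)
    change _ ∣ co y at h
    rw [hs, hP3 y hy hy1] at h
    exact hodd3 h
  obtain ⟨y₀, hy₀⟩ := Subgroup.ne_bot_iff_exists_ne_one.1 hP1
  have hy₀1 : (y₀ : G) ≠ 1 := fun e => hy₀ (Subtype.ext e)
  have hCP : centralizer (P : Set G) ≤ cent (y₀ : G) := fun x hx =>
    mem_cent.2 (mem_centralizer_iff.1 hx y₀ y₀.2)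
  have hinv : ∀ {s : G}, orderOf s = 2 → ∀ y ∈ P, s * y * s⁻¹ = y⁻¹ := fun {s} hs =>
    OrderFive.inverts_of_fpf (by rw [← pow_two, ← hs, pow_orderOf_eq_one])
      (fun c hc => hPn.conj_mem c hc s) fun c hc e => hfix s hs c hc (mul_inv_eq_iff_eq_mul.1 e)
  have hkey : ∀ k ∈ cent z, k ≠ 1 → (co k = c₁ ∨ co k = c₂) ∧ cent k ≤ cent z := by
    intro k hk hk1
    have hcop : (orderOf k).Coprime c₃ := h1.coprime_dvd_left
      (hzc ▸ Subgroup.orderOf_dvd_natCard (cent z) hk)
    have hk3 := X.ne_three_of_coprime h1 hk1 hcop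
    have htk : co k = c₁ ∨ co k = c₂ := by
      rcases X.htype k hk1 with h | h | h
      exacts [Or.inl h, Or.inr h, absurd h hk3]
    refine ⟨htk, fun x hx => ?_⟩
    set c := x * z * x⁻¹ * z with hc
    have hzz : z⁻¹ = z := inv_eq_of_mul_eq_one_right (by rw [← pow_two, ← hz, pow_orderOf_eq_one])
    have hxz : orderOf (x * z * x⁻¹) = 2 := by
      rw [show x * z * x⁻¹ = MulAut.conj x z from (MulAut.conj_apply x z).symm, MulEquiv.orderOf_eq, hz]
    have hcP : c ∈ centralizer (P : Set G) := mem_centralizer_iff.2 fun y hy => by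
      have e : c * y * c⁻¹ = y := by
        rw [hc, show x * z * x⁻¹ * z * y * (x * z * x⁻¹ * z)⁻¹ =
            x * z * x⁻¹ * (z * y * z⁻¹) * (x * z * x⁻¹)⁻¹ by group,
          hinv hz y hy, hinv hxz _ (inv_mem hy), inv_inv]
      exact (mul_inv_eq_iff_eq_mul.1 e).symm
    have hzk : z ∈ cent k := cent_comm.1 hk
    have hck : c ∈ cent k := mul_mem (mul_mem (mul_mem hx hzk) (inv_mem hx)) hzk
    have hd2 : orderOf c ∣ c₂ := by
      refine (Subgroup.orderOf_dvd_natCard _ hck).trans ?_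
      change co k ∣ c₂
      rcases htk with h | h
      exacts [h ▸ X.hd, dvd_of_eq h]
    have hd3 : orderOf c ∣ c₃ := hP3 y₀ y₀.2 hy₀1 ▸ Subgroup.orderOf_dvd_natCard _ (hCP hcP)
    have hc1 : c = 1 := orderOf_eq_one_iff.1 (Nat.eq_one_of_dvd_coprimes h1 hd2 hd3)
    have : x * z * x⁻¹ = z := by
      rw [hc, mul_eq_one_iff_eq_inv, hzz] at hc1
      exact hc1
    exact mem_cent.2 (mul_inv_eq_iff_eq_mul.1 this).symm
  refine solvable_of_fpf_invol hP1 hfix hz (solvable_of_one_size (n := c₂ / c₁) fun k => ?_)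
  by_cases hk1 : k = 1
  · left
    rw [hk1, cl_eq_one]
    exact one_mem _
  obtain ⟨htk, hle⟩ := hkey k k.2 fun e => hk1 (Subtype.ext e)
  have hmap : (cent k).map (cent z).subtype = cent (k : G) := by
    ext v
    refine ⟨fun ⟨w, hw, e⟩ => e ▸ mem_cent.2 (congrArg Subtype.val (mem_cent.1 hw)), fun hv =>
      ⟨⟨v, hle hv⟩, mem_cent.2 (Subtype.ext (mem_cent.1 hv)), rfl⟩⟩
  have hcard : Nat.card (cent k) = co (k : G) := by
    rw [← card_map_of_injective (cent z).subtype_injective, hmap]; rfl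
  have hmul := (cent k).card_mul_index
  rw [hcard, show Nat.card (cent z) = c₂ from hzc] at hmul
  change co (k : G) * cl k = c₂ at hmul
  rcases htk with h | h <;> rw [h] at hmul
  · right
    rw [← hmul, Nat.mul_div_cancel_left _ (h ▸ co_pos (k : G))]
  · left
    exact (mul_eq_left₀ X.pos₂.ne').1 hmul

/-- The involution centraliser has nontrivial core. -/
theorem solvable_of_core_ne_bot (hodd3 : ¬ 2 ∣ c₃) {z : G} (hz : orderOf z = 2) (hzc : co z = c₂)
    (hcore : (cent z).normalCore ≠ ⊥) : Group.IsSolvable G := by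
  classical
  haveI : Fact (Nat.Prime 2) := ⟨Nat.prime_two⟩
  have hz1 : z ≠ 1 := fun e => by rw [e, orderOf_one] at hz; omega
  set N := (cent z).normalCore with hN
  haveI hNn : N.Normal := normalCore_normal _
  have hNz : N ≤ cent z := normalCore_le _
  have hN2 : (Nat.card N).Coprime c₃ := h1.coprime_dvd_left (hzc ▸ card_dvd_of_le hNz)
  have hin : ∀ M : Subgroup G, M.Normal → (Nat.card M).Coprime c₃ → M ≤ N ∧
      ∀ w : G, co w = c₂ → M ≤ cent w := fun M hM hMc => by
    haveI := hM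
    have h : ∀ w : G, co w = c₂ → M ≤ cent w := fun w hw =>
      le_of_coprime_index (by rwa [show (cent w).index = c₃ from X.cl_two h1 hw])
    exact ⟨normal_le_normalCore.2 (h z hzc), h⟩
  have hNw := (hin N hNn hN2).2
  -- no element of order dividing `c₃` centralises `N` or an involution
  have hnot : ∀ M : Subgroup G, (∀ x ∈ M, co x = c₃ → x = 1) → (Nat.card M).Coprime c₃ := by
    intro M hM
    refine Nat.coprime_of_dvd fun r hr hrM hr3 => ?_
    haveI := Fact.mk hr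
    obtain ⟨x, hx⟩ := exists_prime_orderOf_dvd_card' r hrM
    have hx' : orderOf (x : G) = r := by rw [Subgroup.orderOf_coe, hx]
    have hx1 : (x : G) ≠ 1 := fun e => by rw [e, orderOf_one] at hx'; exact hr.ne_one hx'.symm
    exact hx1 (hM x x.2 (X.type_three h1 hx1 hr (hx' ▸ dvd_rfl) hr3))
  have hfpf : ∀ x : G, co x = c₃ → ∀ n ∈ N, Commute x n → n = 1 := by
    intro x hx n hn hxn
    have hd : orderOf n ∣ c₃ := hx ▸ Subgroup.orderOf_dvd_natCard (cent x) (mem_cent.2 hxn.eq)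
    exact orderOf_eq_one_iff.1 (Nat.eq_one_of_dvd_coprimes hN2 (Subgroup.orderOf_dvd_natCard N hn) hd)
  obtain ⟨n₀, hn₀⟩ := Subgroup.ne_bot_iff_exists_ne_one.1 hcore
  set Z₀ := centralizer (N : Set G) with hZ₀
  haveI : Z₀.Normal := inferInstance
  have hZN : Z₀ ≤ N := (hin Z₀ inferInstance (hnot Z₀ fun x hx hx3 => by
    by_contra
    exact hn₀ (Subtype.ext (hfpf x hx3 n₀ n₀.2 (mem_centralizer_iff.1 hx n₀ n₀.2).symm)))).1
  have hNc : ∀ {n x : G}, n ∈ N → x ∈ Z₀ → Commute n x := fun hn hx => mem_centralizer_iff.1 hx _ hn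
  have hZc : ∀ {x y : G}, x ∈ Z₀ → y ∈ Z₀ → Commute x y := fun hx hy => hNc (hZN hx) hy
  have hw2 : ∀ w : G, co w = c₂ → w ∈ Z₀ := fun w hw =>
    mem_centralizer_iff.2 fun n hn => (mem_cent.1 (hNw w hw hn)).symm
  let Q : Subgroup G :=
    { carrier := {x | x ∈ Z₀ ∧ ∃ k : ℕ, x ^ 2 ^ k = 1}
      one_mem' := ⟨one_mem _, 0, one_pow _⟩
      mul_mem' := fun {x y} ⟨hx, k, hk⟩ ⟨hy, l, hl⟩ => ⟨mul_mem hx hy, k + l, by
        rw [(hZc hx hy).mul_pow, pow_add, pow_mul, hk, one_pow, one_mul, mul_comm, pow_mul, hl, one_pow]⟩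
      inv_mem' := fun {x} ⟨hx, k, hk⟩ => ⟨inv_mem hx, k, by rw [inv_pow, hk, inv_one]⟩ }
  haveI hQn : Q.Normal := ⟨fun x ⟨hx, k, hk⟩ g => ⟨(inferInstance : Z₀.Normal).conj_mem x hx g, k,
    by rw [conj_pow, hk]; group⟩⟩
  have hQp : IsPGroup 2 Q := fun ⟨x, _, k, hk⟩ => ⟨k, Subtype.ext hk⟩
  have hzQ : z ∈ Q := ⟨hw2 z hzc, 1, by rw [pow_one, ← hz, pow_orderOf_eq_one]⟩
  have hDN : centralizer (Q : Set G) ≤ N := (hin _ inferInstance (hnot _ fun x hx hx3 => by
    by_contra
    refine hodd3 (hz ▸ hx3 ▸ Subgroup.orderOf_dvd_natCard (cent x) (mem_cent.2 ?_ : z ∈ cent x))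
    exact (mem_centralizer_iff.1 hx z hzQ).symm)).1
  have hNQ : ∀ n ∈ N, ∀ c ∈ Q, Commute n c := fun n hn c hc => hNc hn hc.1
  obtain ⟨x₃, hx₃, hx₃c⟩ := X.ex₃
  obtain ⟨b, rb, j, hb1, hb, hrb, hob⟩ := X.exists_primary (Or.inr rfl) hx₃ hx₃c
  -- `N` is nilpotent
  haveI hNnil : Group.IsNilpotent N := by
    haveI := Fact.mk hrb
    set x := b ^ (orderOf b / rb) with hxdef
    have hxo : orderOf x = rb :=
      orderOf_pow_orderOf_div (orderOf_pos b).ne' (pow_pos_of_ne hb1 hob)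
    have hx1 : x ≠ 1 := fun e => by rw [e, orderOf_one] at hxo; exact hrb.ne_one hxo.symm
    have hx3 : co x = c₃ := X.type_three_of_mem h1 hb (pow_mem (self_mem_cent b) _) hx1
    refine PComplement.isNilpotent_of_fpf (p := rb) N (MulAut.conjNormal x) ?_ fun n hn => ?_
    · rw [← map_pow, ← hxo, pow_orderOf_eq_one, map_one]
    · have e : x * (n : G) * x⁻¹ = n := by rw [← MulAut.conjNormal_apply, hn]
      exact Subtype.ext (hfpf x hx3 n n.2 (mul_inv_eq_iff_eq_mul.1 e))
  refine solvable_of_quot N inferInstance ?_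
  by_cases hall : ∀ (x : G) (q k : ℕ), q.Prime → q ≠ 2 → orderOf x = q ^ k → x ∈ cent z → x ∈ N
  · set π := QuotientGroup.mk' N with hπ
    have hA : IsPGroup 2 ((cent z).map π) := by
      rintro ⟨_, g, hg, rfl⟩
      obtain ⟨a, c, -, hc, hac, hcomm, -, hpa, hco⟩ := exists_split 2 g
      obtain ⟨k, hk⟩ := exists_pow_of_parts Nat.prime_two hpa
      have hcN : c ∈ N := by
        by_contra hcN
        obtain ⟨q, i, y, hq, hqc, hy, hyo, hyN⟩ := PrimeParts.exists_part_not_mem hcN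
        refine hyN (hall y q i hq ?_ hyo ((zpowers_le.2 ((zpowers_le.2 hg) hc)) hy))
        exact fun e => hq.ne_one (Nat.eq_one_of_dvd_coprimes hco hqc (e ▸ dvd_rfl))
      refine ⟨k, Subtype.ext ?_⟩
      show π g ^ 2 ^ k = 1
      rw [← map_pow, hac, (show Commute a c from hcomm).mul_pow, ← hk, pow_orderOf_eq_one, one_mul]
      exact (QuotientGroup.eq_one_iff _).2 (pow_mem hcN _)
    have hBn : Group.IsNilpotent (cent b) := by
      by_cases hnp : ∀ p k : ℕ, p.Prime → c₃ ≠ p ^ k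
      · letI : CommGroup (cent b) :=
          { (inferInstance : Group (cent b)) with
            mul_comm := fun x y => Subtype.ext
              ((X.selfCent h1 hnp hb1 hb ⟨rb, j, hrb, hob⟩).comm x.2 y.2) }
        infer_instance
      · push Not at hnp
        obtain ⟨p, k, hp, hk⟩ := hnp
        haveI := Fact.mk hp
        exact (IsPGroup.of_card (n := k) (hb.trans hk)).isNilpotent
    refine NilProd.isSolvable_of_nilpotent_product (A := (cent z).map π) (B := (cent b).map π)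
      hA.isNilpotent ?_ fun q => ?_
    · haveI := hBn
      exact Group.nilpotent_of_surjective (π.subgroupMap (cent b)) (π.subgroupMap_surjective _)
    · obtain ⟨g, rfl⟩ := QuotientGroup.mk'_surjective N q
      obtain ⟨u, hu, v, hv, rfl⟩ := exists_mul_of_coprime (A := cent z) (B := cent b)
        (X.idx_coprime hzc hb) g
      exact ⟨π u, mem_map_of_mem π hu, π v, mem_map_of_mem π hv, map_mul π u v⟩
  push Not at hall
  obtain ⟨x, q, k, hq, hq2, hxo, hxz, hxN⟩ := hall
  haveI := Fact.mk hq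
  have hqx : q ∣ orderOf x := pow_pos_of_ne (fun e => hxN (e ▸ one_mem N)) hxo
  have hq3 : ¬ q ∣ c₃ := fun h => hq.not_dvd_one (h1.gcd_eq_one ▸
    Nat.dvd_gcd (hqx.trans (hzc ▸ Subgroup.orderOf_dvd_natCard (cent z) hxz)) h)
  -- such elements have type 1
  have hone : ∀ (y : G) (l : ℕ), orderOf y = q ^ l → y ∉ N → co y = c₁ := by
    intro y l hl hyN
    have hy1 : y ≠ 1 := fun e => hyN (e ▸ one_mem N)
    rcases X.htype y hy1 with h | h | h
    · exact h
    · exact absurd (hZN (hw2 y h)) hyN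
    · exact absurd h (X.ne_three_of_coprime h1 hy1 (hl ▸ (hq.coprime_iff_not_dvd.2 hq3).pow_left l))
  have h2elt : ∀ (v : G) (m : ℕ), v ≠ 1 → orderOf v = 2 ^ m → co v = c₁ ∨ co v = c₂ := by
    intro v m hv1 hv
    rcases X.htype v hv1 with h | h | h
    · exact Or.inl h
    · exact Or.inr h
    · exact absurd h (X.ne_three_of_coprime h1 hv1
        (hv ▸ (Nat.prime_two.coprime_iff_not_dvd.2 hodd3).pow_left m))
  have hL1 : ∀ (y : G) (l : ℕ), orderOf y = q ^ l → y ∉ N → ∀ (v : G) (m : ℕ), v ≠ 1 →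
      orderOf v = 2 ^ m → v ∈ cent y → v ∈ Q := by
    intro y l hl hyN v m hv1 hv hvy
    have hco : (orderOf v).Coprime (orderOf y) := by
      rw [hv, hl]; exact Nat.Coprime.pow _ _ ((Nat.coprime_primes Nat.prime_two hq).2 (Ne.symm hq2))
    rcases h2elt v m hv1 hv with h | h
    · exfalso
      have hle := X.one_le h hv1 (cent_comm.1 hvy) hco
      refine hyN (hDN (mem_centralizer_iff.2 fun c hc => ?_))
      have hvp : IsPGroup 2 (zpowers v) := IsPGroup.of_card (n := m) (by rw [Nat.card_zpowers, hv])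
      refine (Balance.commute_of_commute_fixed hQp hvp (by rw [normalizer_eq_top]; exact le_top)
        (by rw [normalizer_eq_top]; exact mem_top y) ?_ (fun r hr => ?_) (fun c _ hcR => ?_) c hc).eq.symm
      · rw [hl]; exact ((Nat.coprime_primes hq Nat.prime_two).2 hq2).pow_left l
      · exact mem_cent.1 ((zpowers_le.2 hvy) hr)
      · exact mem_cent.1 (hle (mem_cent.2 (hcR v (mem_zpowers v)).eq))
    · exact ⟨hw2 v h, m, by rw [← hv, pow_orderOf_eq_one]⟩
  -- no centraliser of type 1 contains `Q`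
  have hQ1 : ∀ y : G, co y = c₁ → ¬ Q ≤ cent y := by
    intro y hy hQy
    refine hxN (hDN (mem_centralizer_iff.2 fun c hc => ?_))
    obtain ⟨T⟩ := (inferInstance : Nonempty (Sylow 2 (cent x)))
    set T' := (T : Subgroup (cent x)).map (cent x).subtype with hT'
    have hTQ : T' ≤ Q := by
      rintro v ⟨w, hw, rfl⟩
      by_cases hv1 : (w : G) = 1
      · rw [Subgroup.coe_subtype, hv1]; exact one_mem _
      obtain ⟨m, hm⟩ := IsPGroup.iff_orderOf.1 T.2 ⟨w, hw⟩
      rw [Subgroup.orderOf_mk, ← Subgroup.orderOf_coe] at hm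
      exact hL1 x k hxo hxN w m hv1 hm w.2
    obtain ⟨i, hi⟩ := IsPGroup.iff_card.1 hQp
    have hd : Nat.card Q ∣ Nat.card T' := by
      rw [hT', card_map_of_injective (cent x).subtype_injective, T.card_eq_multiplicity, hi]
      refine pow_dvd_pow 2 ((Nat.prime_two.pow_dvd_iff_le_factorization (co_pos x).ne').1 ?_)
      rw [← hi, hone x k hxo hxN, ← hy]
      exact card_dvd_of_le hQy
    have heq := eq_of_le_of_card_ge hTQ (Nat.le_of_dvd Nat.card_pos hd)
    exact (mem_cent.1 (map_subtype_le _ (heq.ge hc) : c ∈ cent x)).symm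
  have hQ2 : ∀ v ∈ Q, v ≠ 1 → co v = c₂ := by
    intro v hv hv1
    obtain ⟨m, hm⟩ := IsPGroup.iff_orderOf.1 hQp ⟨v, hv⟩
    rw [Subgroup.orderOf_mk] at hm
    exact (h2elt v m hv1 hm).resolve_left fun h => hQ1 v h fun c hc => mem_cent.2 (hZc hv.1 hc.1).eq
  have hall2 : ∀ (v : G) (m : ℕ), orderOf v = 2 ^ m → v ∈ N := by
    intro v m hv
    by_contra hvN
    have hv1 : v ≠ 1 := fun e => hvN (e ▸ one_mem N)
    have hvc : co v = c₁ := (h2elt v m hv1 hv).resolve_right fun h => hvN (hZN (hw2 v h))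
    have hqc : q ∣ co v := by
      rw [hvc, ← hone x k hxo hxN]; exact hqx.trans (orderOf_dvd_co x)
    obtain ⟨y, hy⟩ := exists_prime_orderOf_dvd_card' q (G := cent v) hqc
    have hy' : orderOf (y : G) = q ^ 1 := by rw [Subgroup.orderOf_coe, hy, pow_one]
    have hvy : v ∈ cent (y : G) := cent_comm.1 y.2
    by_cases hyN : (y : G) ∈ N
    swap
    · exact hvN (hZN (hL1 y 1 hy' hyN v m hv1 hv hvy).1)
    have hy1 : (y : G) ≠ 1 := fun e => by
      rw [e, orderOf_one, pow_one] at hy'; exact hq.ne_one hy'.symm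
    have hQy : Q ≤ cent (y : G) := fun c hc => mem_cent.2 (hNQ y hyN c hc).eq
    rcases X.htype _ hy1 with h | h | h
    · exact hQ1 _ h hQy
    swap
    · exact absurd h (X.ne_three_of_coprime h1 hy1
        (hy' ▸ (hq.coprime_iff_not_dvd.2 hq3).pow_left 1))
    refine hvN (hDN (mem_centralizer_iff.2 fun c hc => ?_))
    by_cases hc1 : c = 1
    · rw [hc1, one_mul, mul_one]
    obtain ⟨mc, hmc⟩ := IsPGroup.iff_orderOf.1 hQp ⟨c, hc⟩
    rw [Subgroup.orderOf_mk] at hmc
    have hcm : (y : G) * c = c * y := (hNQ y hyN c hc).eq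
    have hco : (orderOf (y : G)).Coprime (orderOf c) := by
      rw [hy', hmc]; exact Nat.Coprime.pow _ _ ((Nat.coprime_primes hq Nat.prime_two).2 hq2)
    have hinf := cent_mul_coprime hcm hco
    have hd : co ((y : G) * c) ∣ c₂ := h ▸ co_dvd (hinf.le.trans inf_le_left)
    rcases X.htype _ (mul_ne_one_of_coprime hy1 hcm hco) with h' | h' | h'
    · refine absurd ?_ (hQ1 _ h')
      rw [hinf]
      exact le_inf hQy fun d hd => mem_cent.2 (hZc hc.1 hd.1).eq
    · have e1 := eq_of_co (hinf.le.trans inf_le_left) (h'.trans h.symm)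
      have e2 := eq_of_co (hinf.le.trans inf_le_right) (h'.trans (hQ2 c hc hc1).symm)
      have h3 : v ∈ cent c := by rw [← e2, e1]; exact hvy
      exact (mem_cent.1 h3)
    · exact absurd (h' ▸ hd) X.h32
  refine S0205.result ?_
  rw [Nat.odd_iff]
  by_contra hne
  obtain ⟨g', hg'⟩ := exists_prime_orderOf_dvd_card' (G := G ⧸ N) 2 (by omega)
  obtain ⟨g, rfl⟩ := QuotientGroup.mk'_surjective N g'
  obtain ⟨a, c, -, -, hac, -, -, hpa, hco⟩ := exists_split 2 g
  obtain ⟨m, hm⟩ := exists_pow_of_parts Nat.prime_two hpa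
  rw [hac, map_mul, show QuotientGroup.mk' N a = 1 from (QuotientGroup.eq_one_iff a).2 (hall2 a m hm),
    one_mul] at hg'
  exact Nat.prime_two.ne_one (Nat.eq_one_of_dvd_coprimes hco
    (hg' ▸ orderOf_map_dvd (QuotientGroup.mk' N) c) dvd_rfl)

/-- Coprime maximal centraliser orders. -/
theorem concl_of_coprime : Concl G := by
  by_cases h2 : 2 ∣ c₃
  · exact X.concl_of_even h1 h2
  by_cases h2G : 2 ∣ Nat.card G
  swap
  · exact Or.inl (S0205.result (Nat.odd_iff.2 (by omega)))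
  by_cases hII : ∀ u : G, u ≠ 1 → (∃ k, orderOf u = 2 ^ k) → co u = c₁
  · refine concl_of_abelian_invol X.hZ h2G fun t ht => comm_of_squares (fun u hu hu2 => ?_)
      (fun t v ht hv hv2 => ?_) ht
    · obtain ⟨k, hk⟩ := hu
      have hu1 : u ≠ 1 := fun e => hu2 (by rw [e, one_pow])
      refine eq_of_co (cent_le_of_mem_zpowers (pow_mem (Subgroup.mem_zpowers u) 2)) ?_
      rw [hII u hu1 ⟨k, hk⟩, hII (u ^ 2) hu2]
      obtain ⟨i, -, hi⟩ := (Nat.dvd_prime_pow Nat.prime_two).1 (hk ▸ orderOf_pow_dvd 2)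
      exact ⟨i, hi⟩
    · have ht1 : t ≠ 1 := fun e => by rw [e, orderOf_one] at ht; omega
      exact X.one_le (hII t ht1 ⟨1, by rw [pow_one, ht]⟩) ht1 hv (ht ▸ hv2.symm)
  push Not at hII
  obtain ⟨u, hu1, ⟨k, hk⟩, huc⟩ := hII
  have hu2 : 2 ∣ orderOf u := pow_pos_of_ne hu1 hk
  have huc2 : co u = c₂ := by
    rcases X.htype u hu1 with h | h | h
    · exact absurd h huc
    · exact h
    · exact absurd (hu2.trans (h ▸ orderOf_dvd_co u)) h2
  set z := u ^ (orderOf u / 2) with hzdef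
  have hz : orderOf z = 2 := orderOf_pow_orderOf_div (orderOf_pos u).ne' hu2
  have hz1 : z ≠ 1 := fun e => by rw [e, orderOf_one] at hz; omega
  have hzc : co z = c₂ := by
    have := X.eq_of_max hz1 (cent_le_of_mem_zpowers (pow_mem (Subgroup.mem_zpowers u) _))
      (Or.inl huc2)
    rw [co, ← this]; exact huc2
  left
  by_cases hcore : (cent z).normalCore = ⊥
  · exact X.solvable_of_core_bot h1 h2 hz hzc hcore
  · exact X.solvable_of_core_ne_bot h1 h2 hz hzc hcore

end Ctx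

end Cfsg.Agent.ClassSize.CentrelessThree
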