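import Cfsg.Agent.Lib.ClassSize.CentrelessThree.Basic
import Cfsg.Agent.Lib.PSL2.ThreeSizes.Main
import Cfsg.Agent.S4146
import Cfsg.Agent.Lib.Solvable.Basic

/-!
# Three centraliser orders in a group with trivial centre, one properly dividing another
-/

set_option autoImplicit false
set_option linter.style.haveILetI false
set_option linter.unusedSectionVars false

namespace Cfsg.Agent.ClassSize.CentrelessThree

open Subgroup Cfsg.Agent Cfsg.Agent.ClassSize.CoprimeTop Cfsg.Agent.ThreeSizes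

universe u

variable {G : Type u} [Group G] [Finite G]

theorem cl_of_co {x y : G} (h : co x = co y) : cl x = cl y := by
  have h1 := co_mul_cl x
  rw [h, ← co_mul_cl y] at h1
  exact Nat.eq_of_mul_eq_mul_left (co_pos y) h1

theorem co_of_cl {x y : G} (h : cl x = cl y) : co x = co y := by
  have h1 := co_mul_cl x
  rw [h, ← co_mul_cl y] at h1
  exact Nat.eq_of_mul_eq_mul_right (cl_pos y) h1

theorem co_lt_of_center (hZ : center G = ⊥) {g : G} (hg : g ≠ 1) : co g < Nat.card G := by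
  refine lt_of_le_of_ne (Nat.le_of_dvd Nat.card_pos (Subgroup.card_subgroup_dvd_card _)) fun h => hg ?_
  have hg' : g ∈ center G := by
    rw [← cl_eq_one]
    have := co_mul_cl g
    rw [h] at this
    exact Nat.eq_of_mul_eq_mul_left Nat.card_pos (this.trans (mul_one _).symm)
  rwa [hZ, mem_bot] at hg'

/-- A prime to which some element of `C(x)` has full part does not divide the class size. -/
theorem not_dvd_cl_of_full {t : ℕ} (ht : t.Prime) {w x : G}
    (hfull : ∀ j, t ^ j ∣ Nat.card G → t ^ j ∣ co w) (hd : co w ∣ co x) : ¬ t ∣ cl x := by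
  intro h
  set F := (Nat.card G).factorization t with hF
  have h1 : t ^ (F + 1) ∣ Nat.card G := by
    rw [pow_succ, ← co_mul_cl x]
    exact mul_dvd_mul ((hfull F (Nat.ordProj_dvd _ t)).trans hd) h
  have := (ht.pow_dvd_iff_le_factorization Nat.card_pos.ne').1 h1
  omega

theorem exists_pow_of_parts {q : ℕ} (hq : q.Prime) {y : G}
    (h : ∀ d : ℕ, d.Prime → d ∣ orderOf y → d ∣ q) : ∃ k, orderOf y = q ^ k :=
  ⟨_, Nat.eq_prime_pow_of_unique_prime_dvd (orderOf_pos y).ne'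
    fun {d} hd hdy => (Nat.prime_dvd_prime_iff_eq hd hq).1 (h d hd hdy)⟩

theorem pow_pos_of_ne {q k : ℕ} {y : G} (hy : y ≠ 1) (h : orderOf y = q ^ k) : q ∣ orderOf y := by
  refine h ▸ dvd_pow_self q fun e => hy (orderOf_eq_one_iff.1 ?_)
  rw [h, e, pow_zero]

theorem mul_ne_one_of_coprime {x y : G} (hx : x ≠ 1) (hc : Commute x y)
    (hco : (orderOf x).Coprime (orderOf y)) : x * y ≠ 1 := fun e => by
  have := hc.orderOf_mul_eq_mul_orderOf_of_coprime hco
  rw [e, orderOf_one] at this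
  exact hx (orderOf_eq_one_iff.1 (Nat.eq_one_of_mul_eq_one_right this.symm))

/-- The configuration. -/
structure Ctx (G : Type u) [Group G] (c₁ c₂ c₃ : ℕ) : Prop where
  hZ : center G = ⊥
  htype : ∀ x : G, x ≠ 1 → co x = c₁ ∨ co x = c₂ ∨ co x = c₃
  hd : c₁ ∣ c₂
  hne12 : c₁ ≠ c₂
  h23 : ¬ c₂ ∣ c₃
  h32 : ¬ c₃ ∣ c₂
  hlcm : Nat.lcm c₂ c₃ = Nat.card G
  ex₁ : ∃ x : G, x ≠ 1 ∧ co x = c₁
  ex₂ : ∃ x : G, x ≠ 1 ∧ co x = c₂
  ex₃ : ∃ x : G, x ≠ 1 ∧ co x = c₃

/-- From a proper inclusion of centralisers. -/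
theorem exists_ctx (hZ : center G = ⊥) {C : Finset ℕ} (hC : C.card = 3)
    (hmem : ∀ n, n ∈ C ↔ ∃ x : G, x ≠ 1 ∧ co x = n) {x₁ x₂ : G} (hx₁ : x₁ ≠ 1) (hx₂ : x₂ ≠ 1)
    (hle : cent x₁ ≤ cent x₂) (hne : cent x₁ ≠ cent x₂) : ∃ c₁ c₂ c₃, Ctx G c₁ c₂ c₃ := by
  classical
  obtain ⟨c₁, hc₁⟩ : ∃ c, c = co x₁ := ⟨_, rfl⟩
  obtain ⟨c₂, hc₂⟩ : ∃ c, c = co x₂ := ⟨_, rfl⟩
  have hd : c₁ ∣ c₂ := by rw [hc₁, hc₂]; exact co_dvd hle
  have hne12 : c₁ ≠ c₂ := fun e => hne (eq_of_co hle (hc₁ ▸ hc₂ ▸ e))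
  have h1 : c₁ ∈ C := (hmem _).2 ⟨x₁, hx₁, hc₁.symm⟩
  have h2 : c₂ ∈ C := (hmem _).2 ⟨x₂, hx₂, hc₂.symm⟩
  obtain ⟨c₃, hc₃, h31, h32⟩ : ∃ c₃ ∈ C, c₃ ≠ c₁ ∧ c₃ ≠ c₂ := by
    have hcard : 0 < ((C.erase c₁).erase c₂).card := by
      rw [Finset.card_erase_of_mem (Finset.mem_erase.2 ⟨hne12.symm, h2⟩),
        Finset.card_erase_of_mem h1, hC]
      norm_num
    obtain ⟨c, hc⟩ := Finset.card_pos.1 hcard
    simp only [Finset.mem_erase] at hc
    exact ⟨c, hc.2.2, hc.2.1, hc.1⟩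
  have hall : ∀ n ∈ C, n = c₁ ∨ n = c₂ ∨ n = c₃ := by
    have hsub : ({c₁, c₂, c₃} : Finset ℕ) = C := by
      refine Finset.eq_of_subset_of_card_le ?_ (le_of_eq ?_)
      · intro n hn
        simp only [Finset.mem_insert, Finset.mem_singleton] at hn
        rcases hn with rfl | rfl | rfl <;> assumption
      · rw [hC, Finset.card_insert_of_notMem (by simp [hne12, h31.symm]),
          Finset.card_insert_of_notMem (by simp [h32.symm]), Finset.card_singleton]
    intro n hn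
    rw [← hsub] at hn
    simpa using hn
  have htype : ∀ x : G, x ≠ 1 → co x = c₁ ∨ co x = c₂ ∨ co x = c₃ := fun x hx =>
    hall _ ((hmem _).2 ⟨x, hx, rfl⟩)
  have htop : ∀ c ∈ C, (∀ n ∈ C, n ∣ c) → False := by
    intro c hc hdiv
    obtain ⟨v, hv1, hv⟩ := (hmem c).1 hc
    have h := card_dvd_of_forall (n := c) fun z hz => hdiv _ ((hmem _).2 ⟨z, hz, rfl⟩)
    have := co_lt_of_center hZ hv1
    have := Nat.le_of_dvd (hv ▸ co_pos v) h
    omega
  obtain ⟨x₃, hx₃, hx₃c⟩ := (hmem c₃).1 hc₃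
  refine ⟨c₁, c₂, c₃, hZ, htype, hd, hne12, fun h => htop c₃ hc₃ fun n hn => ?_,
    fun h => htop c₂ h2 fun n hn => ?_, Nat.dvd_antisymm ?_ (card_dvd_of_forall fun z hz => ?_),
    ⟨x₁, hx₁, hc₁.symm⟩, ⟨x₂, hx₂, hc₂.symm⟩, ⟨x₃, hx₃, hx₃c⟩⟩
  · rcases hall n hn with rfl | rfl | rfl
    exacts [hd.trans h, h, dvd_rfl]
  · rcases hall n hn with rfl | rfl | rfl
    exacts [hd, dvd_rfl, h]
  · exact Nat.lcm_dvd (hc₂ ▸ Subgroup.card_subgroup_dvd_card _)
      (hx₃c ▸ Subgroup.card_subgroup_dvd_card _)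
  · rcases htype z hz with h | h | h <;> rw [h]
    exacts [hd.trans (Nat.dvd_lcm_left _ _), Nat.dvd_lcm_left _ _, Nat.dvd_lcm_right _ _]

namespace Ctx

variable {c₁ c₂ c₃ : ℕ} (X : Ctx G c₁ c₂ c₃)
include X

theorem h31 : ¬ c₃ ∣ c₁ := fun h => X.h32 (h.trans X.hd)

theorem h21 : ¬ c₂ ∣ c₁ := fun h => X.hne12 (Nat.dvd_antisymm X.hd h)

theorem pos₂ : 0 < c₂ := by obtain ⟨x, -, hx⟩ := X.ex₂; exact hx ▸ co_pos x

theorem pos₃ : 0 < c₃ := by obtain ⟨x, -, hx⟩ := X.ex₃; exact hx ▸ co_pos x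

theorem mem_top_cl {x : G} (hx : x ≠ 1) : cl x ≠ 1 := fun h => hx (by
  have := cl_eq_one.1 h
  rwa [X.hZ, mem_bot] at this)

/-- The two maximal types are maximal. -/
theorem eq_of_max {x y : G} (hy : y ≠ 1) (hle : cent x ≤ cent y) (hx : co x = c₂ ∨ co x = c₃) :
    cent x = cent y := by
  refine eq_of_co hle ?_
  have h1 := co_dvd hle
  rcases hx with h | h <;> rw [h] at h1 ⊢ <;> rcases X.htype y hy with h' | h' | h' <;> rw [h'] at h1 ⊢
  · exact absurd h1 X.h21
  · exact absurd h1 X.h23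
  · exact absurd h1 X.h31
  · exact absurd h1 X.h32

theorem exists_primary {c : ℕ} (hc : c = c₂ ∨ c = c₃) {x : G} (hx : x ≠ 1) (hxc : co x = c) :
    ∃ (y : G) (p i : ℕ), y ≠ 1 ∧ co y = c ∧ p.Prime ∧ orderOf y = p ^ i := by
  obtain ⟨p, hp, hpx⟩ := Nat.exists_prime_and_dvd (fun e => hx (orderOf_eq_one_iff.1 e))
  obtain ⟨y, w, hy, -, hxy, -, -, hpy, hwp⟩ := exists_split p x
  have hy1 : y ≠ 1 := by
    rintro rfl
    rw [one_mul] at hxy
    rw [hxy] at hpx
    exact hp.not_dvd_one (hwp.gcd_eq_one ▸ Nat.dvd_gcd hpx dvd_rfl)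
  obtain ⟨i, hi⟩ := exists_pow_of_parts hp hpy
  have h := X.eq_of_max hy1 (cent_le_of_mem_zpowers hy) (hxc ▸ hc)
  exact ⟨y, p, i, hy1, by rw [co, ← h]; exact hxc, hp, hi⟩

theorem idx_coprime {a b : G} (ha : co a = c₂) (hb : co b = c₃) : (cl a).Coprime (cl b) := by
  refine Nat.coprime_of_dvd fun r hr hra hrb => ?_
  have h1 : r * c₂ ∣ Nat.card G := by
    rw [← ha, ← co_mul_cl a, mul_comm]; exact mul_dvd_mul_left _ hra
  have h2 : r * c₃ ∣ Nat.card G := by
    rw [← hb, ← co_mul_cl b, mul_comm]; exact mul_dvd_mul_left _ hrb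
  have h3 : r * Nat.lcm c₂ c₃ ∣ Nat.card G := by
    rw [← Nat.lcm_mul_left]; exact Nat.lcm_dvd h1 h2
  rw [X.hlcm] at h3
  have h5 := Nat.le_of_dvd Nat.card_pos h3
  have h6 : 2 * Nat.card G ≤ r * Nat.card G := Nat.mul_le_mul_right _ hr.two_le
  have := Nat.card_pos (α := G)
  omega

theorem card_inf {a b : G} (ha : co a = c₂) (hb : co b = c₃) :
    Nat.card (cent a ⊓ cent b : Subgroup G) = Nat.gcd c₂ c₃ := by
  have h1 := (cent a ⊓ cent b).card_mul_index
  rw [index_inf_of_coprime (X.idx_coprime ha hb)] at h1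
  change Nat.card (cent a ⊓ cent b : Subgroup G) * (cl a * cl b) = Nat.card G at h1
  refine Nat.eq_of_mul_eq_mul_right (Nat.mul_pos (Nat.mul_pos (cl_pos a) (cl_pos b)) (Nat.card_pos (α := G))) ?_
  calc Nat.card (cent a ⊓ cent b : Subgroup G) * (cl a * cl b * Nat.card G)
      = Nat.card (cent a ⊓ cent b : Subgroup G) * (cl a * cl b) * Nat.card G := by ring
    _ = (co a * cl a) * (co b * cl b) := by rw [h1, co_mul_cl, co_mul_cl]
    _ = c₂ * c₃ * (cl a * cl b) := by rw [ha, hb]; ring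
    _ = Nat.gcd c₂ c₃ * (cl a * cl b * Nat.card G) := by
      rw [← Nat.gcd_mul_lcm c₂ c₃, X.hlcm]; ring

/-- Commuting elements of the two maximal types have orders with a common factor. -/
theorem nc {a b : G} (ha : co a = c₂) (hb : co b = c₃) (ha1 : a ≠ 1) (hb1 : b ≠ 1)
    (hab : a ∈ cent b) (hco : (orderOf a).Coprime (orderOf b)) : False := by
  have hcm : a * b = b * a := (mem_cent.1 hab).symm
  have hcl : cl (a * b) = cl a * cl b := by
    show (cent (a * b)).index = _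
    rw [cent_mul_coprime hcm hco]
    exact index_inf_of_coprime (X.idx_coprime ha hb)
  have ha' := X.mem_top_cl ha1
  have hb' := X.mem_top_cl hb1
  have hab1 := mul_ne_one_of_coprime ha1 hcm hco
  have h1 : co (a * b) = c₁ := by
    rcases X.htype _ hab1 with h | h | h
    · exact h
    · exfalso
      have := cl_of_co (h.trans ha.symm)
      rw [hcl] at this
      exact hb' ((mul_eq_left₀ (cl_pos a).ne').1 this)
    · exfalso
      have := cl_of_co (h.trans hb.symm)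
      rw [hcl] at this
      exact ha' ((mul_eq_right₀ (cl_pos b).ne').1 this)
  have hrange : Set.range (fun x : G => (centralizer ({x} : Set G)).index) =
      ({1, cl a, cl b, cl a * cl b} : Set ℕ) := by
    ext n
    constructor
    · rintro ⟨x, rfl⟩
      change cl x ∈ _
      by_cases hx : x = 1
      · left; rw [hx, cl_eq_one]; exact one_mem _
      rcases X.htype x hx with h | h | h
      · right; right; right; rw [← hcl]; exact cl_of_co (h.trans h1.symm)
      · right; left; exact cl_of_co (h.trans ha.symm)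
      · right; right; left; exact cl_of_co (h.trans hb.symm)
    · rintro (rfl | rfl | rfl | rfl)
      · exact ⟨1, cl_eq_one.2 (one_mem _)⟩
      · exact ⟨a, rfl⟩
      · exact ⟨b, rfl⟩
      · exact ⟨a * b, hcl⟩
  have := cl_pos a
  have := cl_pos b
  haveI := (S4146.result (cl a) (cl b) (by omega) (by omega) (X.idx_coprime ha hb) hrange).1
  haveI : Nontrivial G := ⟨⟨a, 1, ha1⟩⟩
  exact Solvable.inf_center_ne_bot (N := (⊤ : Subgroup G)) top_ne_bot (by rw [top_inf_eq, X.hZ])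

/-- A coprime element centralising one of minimal type. -/
theorem one_le {x y : G} (hx : co x = c₁) (hx1 : x ≠ 1) (hy : y ∈ cent x)
    (hco : (orderOf x).Coprime (orderOf y)) : cent x ≤ cent y := by
  have hcm : x * y = y * x := mem_cent.1 hy
  have hinf := cent_mul_coprime hcm hco
  have hd1 : co (x * y) ∣ c₁ := hx ▸ co_dvd (hinf.le.trans inf_le_left)
  have heq : cent (x * y) = cent x := by
    refine eq_of_co (hinf.le.trans inf_le_left) ?_
    rcases X.htype _ (mul_ne_one_of_coprime hx1 hcm hco) with h | h | h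
    · rw [h, hx]
    · exact absurd (h ▸ hd1) X.h21
    · exact absurd (h ▸ hd1) X.h31
  exact heq ▸ hinf.le.trans inf_le_right

/-- The primes of the overlap of primary elements of maximal types. -/
theorem prime_of_inf {a b : G} {p q i j r : ℕ} (ha : co a = c₂) (hb : co b = c₃) (ha1 : a ≠ 1)
    (hb1 : b ≠ 1) (hp : p.Prime) (hq : q.Prime) (hoa : orderOf a = p ^ i) (hob : orderOf b = q ^ j)
    (hpq : p ≠ q) (hr : r.Prime) (hrg : r ∣ Nat.gcd c₂ c₃) : r = p ∨ r = q := by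
  haveI := Fact.mk hr
  by_contra hne
  push Not at hne
  rw [← X.card_inf ha hb] at hrg
  obtain ⟨v, hv⟩ := exists_prime_orderOf_dvd_card' r hrg
  have hv' : orderOf (v : G) = r := by rw [Subgroup.orderOf_coe, hv]
  have hva : (v : G) ∈ cent a := v.2.1
  have hvb : (v : G) ∈ cent b := v.2.2
  have hv1 : (v : G) ≠ 1 := fun e => by rw [e, orderOf_one] at hv'; exact hr.ne_one hv'.symm
  have hcob : (orderOf (v : G)).Coprime (orderOf b) := by
    rw [hv', hob]; exact ((Nat.coprime_primes hr hq).2 hne.2).pow_right _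
  have hcoa : (orderOf (v : G)).Coprime (orderOf a) := by
    rw [hv', hoa]; exact ((Nat.coprime_primes hr hp).2 hne.1).pow_right _
  rcases X.htype _ hv1 with h | h | h
  · have hle := X.one_le h hv1 (cent_comm.1 hva) hcoa
    have hba : b ∈ cent a := hle (cent_comm.1 hvb)
    exact X.nc ha hb ha1 hb1 (cent_comm.1 hba)
      (by rw [hoa, hob]; exact Nat.Coprime.pow _ _ ((Nat.coprime_primes hp hq).2 hpq))
  · exact X.nc h hb hv1 hb1 hvb hcob
  · exact X.nc ha h ha1 hv1 (cent_comm.1 hva) hcoa.symm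

end Ctx

end Cfsg.Agent.ClassSize.CentrelessThree
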