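import Cfsg.Agent.Lib.ClassSize.CentrelessThree.Overlap
import Cfsg.Agent.Lib.ClassSize.CentrelessThree.Coprime
import Cfsg.Agent.S3922

/-!
# Trivial centre and at most three nontrivial class sizes
-/

set_option autoImplicit false
set_option linter.style.haveILetI false
set_option linter.unusedSectionVars false

namespace Cfsg.Agent.ClassSize.CentrelessThree

open Subgroup Cfsg.Agent Cfsg.Agent.ClassSize.CoprimeTop Cfsg.Agent.ThreeSizes

universe u

variable {G : Type u} [Group G] [Finite G]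

/-- Exactly three centraliser orders. -/
theorem concl_of_three (hZ : center G = ⊥) {C : Finset ℕ} (hC : C.card = 3)
    (hmem : ∀ n, n ∈ C ↔ ∃ x : G, x ≠ 1 ∧ co x = n) : Concl G := by
  classical
  by_cases h2G : 2 ∣ Nat.card G
  swap
  · exact Or.inl (S0205.result (Nat.odd_iff.2 (by omega)))
  by_cases hF : ∀ x y : G, x ≠ 1 → y ≠ 1 → cent x ≤ cent y → cent x = cent y
  · refine concl_of_abelian_invol hZ h2G fun t ht => comm_of_squares (fun u _ hu2 =>
      hF u (u ^ 2) (fun e => hu2 (by rw [e, one_pow])) hu2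
        (cent_le_of_mem_zpowers (pow_mem (Subgroup.mem_zpowers u) 2))) (fun t v ht hv hv2 => ?_) ht
    have ht1 : t ≠ 1 := fun e => by rw [e, orderOf_one] at ht; omega
    by_cases hv1 : v = 1
    · exact fun g _ => mem_cent.2 (by rw [hv1, one_mul, mul_one])
    have hcm : t * v = v * t := mem_cent.1 hv
    have hco2 : (orderOf t).Coprime (orderOf v) := ht ▸ hv2.symm
    have hinf := cent_mul_coprime hcm hco2
    have htv1 := mul_ne_one_of_coprime ht1 hcm hco2
    have h1 := hF _ _ htv1 ht1 (hinf.le.trans inf_le_left)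
    have h2 := hF _ _ htv1 hv1 (hinf.le.trans inf_le_right)
    exact (h1.symm.trans h2).le
  push Not at hF
  obtain ⟨x₁, x₂, hx₁, hx₂, hle, hne⟩ := hF
  obtain ⟨c₁, c₂, c₃, X⟩ := exists_ctx hZ hC hmem hx₁ hx₂ hle hne
  by_cases hg : Nat.gcd c₂ c₃ = 1
  · exact X.concl_of_coprime hg
  · exact Or.inl (X.solvable_of_overlap hg)

/-- At most three class sizes besides `1`. -/
theorem concl_of_le_three (hZ : center G = ⊥)
    (h : Nat.card {n : ℕ | 1 < n ∧ ∃ x : G, (centralizer ({x} : Set G)).index = n} ≤ 3) :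
    Concl G := by
  classical
  letI := Fintype.ofFinite G
  set S : Finset ℕ := (Finset.univ.filter fun x : G => x ≠ 1).image fun x => cl x with hS
  have hne1 : ∀ x : G, x ≠ 1 → cl x ≠ 1 := fun x hx e => hx (by
    have := cl_eq_one.1 e
    rwa [hZ, mem_bot] at this)
  have hmemS : ∀ n, n ∈ S ↔ ∃ x : G, x ≠ 1 ∧ cl x = n := fun n => by simp [hS]
  have hset : {n : ℕ | 1 < n ∧ ∃ x : G, (centralizer ({x} : Set G)).index = n} = (S : Set ℕ) := by
    ext n
    rw [Finset.mem_coe, hmemS]
    constructor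
    · rintro ⟨hn, x, hx⟩
      refine ⟨x, fun e => ?_, hx⟩
      subst e
      have : cl (1 : G) = 1 := cl_eq_one.2 (one_mem _)
      change cl (1 : G) = n at hx
      omega
    · rintro ⟨x, hx, rfl⟩
      exact ⟨by have := cl_pos x; have := hne1 x hx; omega, x, rfl⟩
  rw [hset, Nat.card_coe_set_eq, Set.ncard_coe_finset] at h
  have hcases : ∀ x : G, cl x = 1 ∨ cl x ∈ S := fun x => by
    by_cases hx : x = 1
    · exact Or.inl (hx ▸ cl_eq_one.2 (one_mem _))
    · exact Or.inr ((hmemS _).2 ⟨x, hx, rfl⟩)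
  by_cases h3 : S.card = 3
  · refine concl_of_three hZ (C := S.image fun n => Nat.card G / n) ?_ fun m => ?_
    · rw [Finset.card_image_of_injOn, h3]
      intro a ha b hb e
      obtain ⟨x, -, rfl⟩ := (hmemS a).1 ha
      obtain ⟨y, -, rfl⟩ := (hmemS b).1 hb
      simp only [← co_mul_cl x, Nat.mul_div_cancel _ (cl_pos x)] at e
      rw [co_mul_cl x, ← co_mul_cl y, Nat.mul_div_cancel _ (cl_pos y)] at e
      exact cl_of_co e
    · simp only [Finset.mem_image, hmemS]
      constructor
      · rintro ⟨_, ⟨x, hx, rfl⟩, rfl⟩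
        exact ⟨x, hx, by rw [← co_mul_cl x, Nat.mul_div_cancel _ (cl_pos x)]⟩
      · rintro ⟨x, hx, rfl⟩
        exact ⟨_, ⟨x, hx, rfl⟩, by rw [← co_mul_cl x, Nat.mul_div_cancel _ (cl_pos x)]⟩
  left
  rcases Nat.lt_or_ge 1 S.card with h2 | h2
  · obtain ⟨a, b, hab, hSab⟩ := Finset.card_eq_two.1 (show S.card = 2 by omega)
    have key : ∀ a b : ℕ, b < a → S = {a, b} → Group.IsSolvable G := fun a b hlt hSab => by
      have hm : ∀ c ∈ S, ∃ x : G, x ≠ 1 ∧ cl x = c := fun c hc => (hmemS c).1 hc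
      obtain ⟨x, hx, hxa⟩ := hm a (by simp [hSab])
      obtain ⟨y, hy, hyb⟩ := hm b (by simp [hSab])
      refine S3922.result a b hlt ?_ (fun w => ?_) ⟨x, hxa⟩ ⟨y, hyb⟩
      · have := cl_pos y; have := hne1 y hy; omega
      · rcases hcases w with e | e
        · exact Or.inl e
        · rw [hSab, Finset.mem_insert, Finset.mem_singleton] at e
          exact Or.inr e.symm
    rcases lt_or_gt_of_ne hab with h' | h'
    · exact key b a h' (by rw [hSab, Finset.pair_comm])
    · exact key a b h' hSab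
  · obtain ⟨n, hn⟩ : ∃ n, S ⊆ {n} := Finset.card_le_one_iff_subset_singleton.1 h2
    exact solvable_of_one_size fun x => (hcases x).imp id fun e => Finset.mem_singleton.1 (hn e)

end Cfsg.Agent.ClassSize.CentrelessThree
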