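import Cfsg.Agent.Lib.ClassSize.CentrelessThree.Ctx
import Cfsg.Agent.Lib.Balance.CharP
import Cfsg.Agent.Lib.Solvable.Basic
import Cfsg.Agent.S0144

/-!
# The maximal centraliser orders have a common factor: then the group is solvable
-/

set_option autoImplicit false
set_option linter.style.haveILetI false
set_option linter.unusedSectionVars false

namespace Cfsg.Agent.ClassSize.CentrelessThree

open Subgroup Cfsg.Agent Cfsg.Agent.ClassSize.CoprimeTop Cfsg.Agent.ThreeSizes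

universe u

variable {G : Type u} [Group G] [Finite G]

theorem solvable_of_two_primes {p s : ℕ} (hp : p.Prime) (hs : s.Prime)
    (h : ∀ t : ℕ, t.Prime → t ∣ Nat.card G → t = p ∨ t = s) : Group.IsSolvable G := by
  obtain ⟨a, M, hM, hG⟩ := Nat.exists_eq_pow_mul_and_not_dvd (Nat.card_pos (α := G)).ne' p hp.ne_one
  have hM0 : M ≠ 0 := fun e => hM (e ▸ dvd_zero p)
  refine S0144.result p s a M.primeFactorsList.length hp hs ?_
  rw [← Nat.eq_prime_pow_of_unique_prime_dvd hM0 fun {t} ht htM => ?_, hG]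
  rcases h t ht (hG ▸ htM.mul_left _) with e | e
  · exact absurd (e ▸ htM) hM
  · exact e

namespace Ctx

variable {c₁ c₂ c₃ : ℕ} (X : Ctx G c₁ c₂ c₃)
include X

/-- Commuting primary elements of the two maximal types, unless the group is solvable. -/
theorem exists_pair (hg : Nat.gcd c₂ c₃ ≠ 1) : Group.IsSolvable G ∨
    ∃ (a b : G) (p i j : ℕ), p.Prime ∧ a ≠ 1 ∧ b ≠ 1 ∧ co a = c₂ ∧ co b = c₃ ∧ a ∈ cent b ∧
      orderOf a = p ^ i ∧ orderOf b = p ^ j := by
  by_cases hex : ∃ (a b : G) (p q i j : ℕ), p.Prime ∧ q.Prime ∧ a ≠ 1 ∧ b ≠ 1 ∧ co a = c₂ ∧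
      co b = c₃ ∧ a ∈ cent b ∧ orderOf a = p ^ i ∧ orderOf b = q ^ j
  · obtain ⟨a, b, p, q, i, j, hp, hq, ha1, hb1, ha, hb, hab, hoa, hob⟩ := hex
    obtain rfl : p = q := by
      by_contra hpq
      exact X.nc ha hb ha1 hb1 hab
        (by rw [hoa, hob]; exact Nat.Coprime.pow _ _ ((Nat.coprime_primes hp hq).2 hpq))
    exact Or.inr ⟨a, b, p, i, j, hp, ha1, hb1, ha, hb, hab, hoa, hob⟩
  left
  set r := (Nat.gcd c₂ c₃).minFac with hr'
  have hr : r.Prime := Nat.minFac_prime hg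
  haveI := Fact.mk hr
  -- all primary elements of maximal type are `r`-elements
  have key : ∀ (a b : G) (p q i j : ℕ), p.Prime → q.Prime → a ≠ 1 → b ≠ 1 → co a = c₂ → co b = c₃ →
      orderOf a = p ^ i → orderOf b = q ^ j → p = r ∧ q = r := by
    intro a b p q i j hp hq ha1 hb1 ha hb hoa hob
    obtain ⟨v, hv⟩ := exists_prime_orderOf_dvd_card' r (G := (cent a ⊓ cent b : Subgroup G))
      (X.card_inf ha hb ▸ Nat.minFac_dvd _)
    have hv' : orderOf (v : G) = r := by rw [Subgroup.orderOf_coe, hv]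
    have hva : (v : G) ∈ cent a := v.2.1
    have hvb : (v : G) ∈ cent b := v.2.2
    have hv1 : (v : G) ≠ 1 := fun e => by rw [e, orderOf_one] at hv'; exact hr.ne_one hv'.symm
    rcases X.htype _ hv1 with h | h | h
    · constructor
      · by_contra hne
        have hle := X.one_le h hv1 (cent_comm.1 hva)
          (by rw [hv', hoa]; exact ((Nat.coprime_primes hr hp).2 (Ne.symm hne)).pow_right _)
        exact hex ⟨a, b, p, q, i, j, hp, hq, ha1, hb1, ha, hb,
          cent_comm.1 (hle (cent_comm.1 hvb)), hoa, hob⟩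
      · by_contra hne
        have hle := X.one_le h hv1 (cent_comm.1 hvb)
          (by rw [hv', hob]; exact ((Nat.coprime_primes hr hq).2 (Ne.symm hne)).pow_right _)
        exact hex ⟨a, b, p, q, i, j, hp, hq, ha1, hb1, ha, hb, hle (cent_comm.1 hva), hoa, hob⟩
    · exact absurd ⟨_, b, r, q, 1, j, hr, hq, hv1, hb1, h, hb, hvb, by rw [pow_one, hv'], hob⟩ hex
    · exact absurd ⟨a, _, p, r, i, 1, hp, hr, ha1, hv1, ha, h, cent_comm.1 hva, hoa,
        by rw [pow_one, hv']⟩ hex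
  obtain ⟨x₂, hx₂, hx₂c⟩ := X.ex₂
  obtain ⟨x₃, hx₃, hx₃c⟩ := X.ex₃
  obtain ⟨a, p, i, ha1, ha, hp, hoa⟩ := X.exists_primary (Or.inl rfl) hx₂ hx₂c
  obtain ⟨b, q, j, hb1, hb, hq, hob⟩ := X.exists_primary (Or.inr rfl) hx₃ hx₃c
  have hone : ∀ (x : G) (t k : ℕ), t.Prime → t ≠ r → x ≠ 1 → orderOf x = t ^ k → co x = c₁ := by
    intro x t k ht htr hx1 hx
    rcases X.htype x hx1 with h | h | h
    · exact h
    · exact absurd (key x b t q k j ht hq hx1 hb1 h hb hx hob).1 htr
    · exact absurd (key a x p t i k hp ht ha1 hx1 ha h hoa hx).2 htr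
  refine solvable_of_primary r hr fun x t k ht htr hx => ?_
  by_cases hx1 : x = 1
  · exact ⟨0, by rw [pow_zero, cl_eq_one, hx1]; exact one_mem _⟩
  refine ⟨_, Nat.eq_prime_pow_of_unique_prime_dvd (cl_pos x).ne' fun {d} hd hdx => ?_⟩
  by_contra hdr
  obtain ⟨w, hw1, ⟨l, hw⟩, hfull⟩ := exists_full hd (hdx.trans (Dvd.intro_left _ (co_mul_cl x)))
  exact not_dvd_cl_of_full hd hfull
    (dvd_of_eq ((hone w d l hd hdr hw1 hw).trans (hone x t k ht htr hx1 hx).symm)) hdx

/-- The case `c₁ ∣ c₃`. -/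
theorem solvable_of_dvd {a b : G} {p i j : ℕ} (hp : p.Prime) (ha1 : a ≠ 1) (hb1 : b ≠ 1)
    (ha : co a = c₂) (hb : co b = c₃) (hab : a ∈ cent b) (hoa : orderOf a = p ^ i)
    (hob : orderOf b = p ^ j) (h13 : c₁ ∣ c₃) : Group.IsSolvable G := by
  have h1g : c₁ ∣ Nat.gcd c₂ c₃ := Nat.dvd_gcd X.hd h13
  by_cases hgp : ∀ r : ℕ, r.Prime → r ∣ Nat.gcd c₂ c₃ → r = p
  · have hc : ∀ (x y z : G) (c : ℕ), (co y = c₂ ∧ co z = c₃ ∨ co y = c₃ ∧ co z = c₂) → y ≠ 1 → z ≠ 1 →
        (∃ k, orderOf y = p ^ k) → (∃ k, orderOf z = p ^ k) → z ∈ cent y → c = co y →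
        ∀ s : ℕ, s.Prime → orderOf x = s → x ∈ cent y → s = p := by
      intro x y z c hyz hy1 hz1 ⟨ky, hky⟩ ⟨kz, hkz⟩ hzy _ s hs hxs hxy
      by_contra hsp
      have hx1 : x ≠ 1 := fun e => by rw [e, orderOf_one] at hxs; exact hs.ne_one hxs.symm
      have hcy : (orderOf x).Coprime (orderOf y) := by
        rw [hxs, hky]; exact ((Nat.coprime_primes hs hp).2 hsp).pow_right _
      have hcz : (orderOf x).Coprime (orderOf z) := by
        rw [hxs, hkz]; exact ((Nat.coprime_primes hs hp).2 hsp).pow_right _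
      -- `x` has the same centraliser as `y`
      have heq : co x = co y → cent x = cent y := fun h => by
        have hcm : x * y = y * x := (mem_cent.1 hxy).symm
        have hinf := cent_mul_coprime hcm hcy
        have hd : orderOf (x * y) ∣ co (x * y) := orderOf_dvd_co _
        rw [(show Commute x y from hcm).orderOf_mul_eq_mul_orderOf_of_coprime hcy, hxs] at hd
        have hs' : s ∣ co (x * y) := (dvd_mul_right s _).trans hd
        have hxy1 := mul_ne_one_of_coprime hx1 hcm hcy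
        have hdy : co (x * y) ∣ co y := co_dvd (hinf.le.trans inf_le_right)
        have hcy' : co (x * y) = co y := by
          rcases X.htype _ hxy1 with h' | h' | h' <;> rw [h'] at hdy hs' ⊢
          · exact absurd (hgp s hs (hs'.trans h1g)) hsp
          · rcases hyz with ⟨e, -⟩ | ⟨e, -⟩ <;> rw [e] at hdy ⊢
            exact absurd hdy X.h23
          · rcases hyz with ⟨e, -⟩ | ⟨e, -⟩ <;> rw [e] at hdy ⊢
            exact absurd hdy X.h32
        have e1 := eq_of_co (hinf.le.trans inf_le_right) hcy'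
        have e2 := eq_of_co (hinf.le.trans inf_le_left) (hcy'.trans h.symm)
        exact e2.symm.trans e1
      rcases X.htype x hx1 with h | h | h
      · exact hsp (hgp s hs ((hxs ▸ h ▸ orderOf_dvd_co x).trans h1g))
      · rcases hyz with ⟨hy2, hz3⟩ | ⟨hy3, -⟩
        · have hzx : z ∈ cent x := heq (h.trans hy2.symm) ▸ hzy
          exact X.nc h hz3 hx1 hz1 (cent_comm.1 hzx) hcz
        · exact X.nc h hy3 hx1 hy1 hxy hcy
      · rcases hyz with ⟨hy2, -⟩ | ⟨hy3, hz2⟩
        · exact X.nc hy2 h hy1 hx1 (cent_comm.1 hxy) hcy.symm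
        · exact X.nc hz2 h hz1 hx1 (heq (h.trans hy3.symm) ▸ hzy) hcz.symm
    have hpow : ∀ t : ℕ, t.Prime → t ∣ Nat.card G → t = p := by
      intro t ht htG
      haveI := Fact.mk ht
      rw [← X.hlcm] at htG
      rcases ht.dvd_mul.1 (htG.trans (Nat.lcm_dvd_mul c₂ c₃)) with h | h
      · obtain ⟨x, hx⟩ := exists_prime_orderOf_dvd_card' t (G := cent a)
          (show t ∣ co a from ha ▸ h)
        exact hc x a b _ (Or.inl ⟨ha, hb⟩) ha1 hb1 ⟨i, hoa⟩ ⟨j, hob⟩ (cent_comm.1 hab) rfl t ht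
          (by rw [Subgroup.orderOf_coe, hx]) x.2
      · obtain ⟨x, hx⟩ := exists_prime_orderOf_dvd_card' t (G := cent b)
          (show t ∣ co b from hb ▸ h)
        exact hc x b a _ (Or.inr ⟨hb, ha⟩) hb1 ha1 ⟨j, hob⟩ ⟨i, hoa⟩ hab rfl t ht
          (by rw [Subgroup.orderOf_coe, hx]) x.2
    exact solvable_of_two_primes hp hp fun t ht htG => Or.inl (hpow t ht htG)
  push Not at hgp
  obtain ⟨s, hs, hsg, hsp⟩ := hgp
  refine solvable_of_two_primes hp hs fun t ht htG => ?_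
  by_contra hne
  push Not at hne
  -- full elements of maximal type
  have h23 : ∀ (u k : ℕ) (w : G), u.Prime → u ≠ p → w ≠ 1 → orderOf w = u ^ k → co w ≠ c₁ →
      ∀ r : ℕ, r.Prime → r ∣ Nat.gcd c₂ c₃ → r = p ∨ r = u := by
    intro u k w hu hup hw1 hw hwc r hr hrg
    rcases X.htype w hw1 with h | h | h
    · exact absurd h hwc
    · exact (X.prime_of_inf h hb hw1 hb1 hu hp hw hob hup hr hrg).symm
    · exact X.prime_of_inf ha h ha1 hw1 hp hu hoa hw (Ne.symm hup) hr hrg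
  obtain ⟨w, hw1, ⟨k, hw⟩, hfull⟩ := exists_full ht htG
  have hwc : co w = c₁ := by
    by_contra hwc
    rcases h23 t k w ht hne.1 hw1 hw hwc s hs hsg with e | e
    · exact hsp e
    · exact hne.2 e.symm
  have htg : t ∣ Nat.gcd c₂ c₃ :=
    ((pow_pos_of_ne hw1 hw).trans (orderOf_dvd_co w)).trans (hwc ▸ h1g)
  have hallone : ∀ (u : ℕ), u.Prime → u ≠ p → u ∣ cl a ∨ u ∣ cl b → False := by
    intro u hu hup hudvd
    have huG : u ∣ Nat.card G := hudvd.elim (fun h => h.trans (Dvd.intro_left _ (co_mul_cl a)))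
      (fun h => h.trans (Dvd.intro_left _ (co_mul_cl b)))
    obtain ⟨v, hv1, ⟨l, hv⟩, hvfull⟩ := exists_full hu huG
    by_cases hvc : co v = c₁
    · rcases hudvd with h | h
      · exact not_dvd_cl_of_full hu hvfull (hvc ▸ ha ▸ X.hd) h
      · exact not_dvd_cl_of_full hu hvfull (hvc ▸ hb ▸ h13) h
    · rcases h23 u l v hu hup hv1 hv hvc s hs hsg with e | e
      · exact hsp e
      · rcases h23 u l v hu hup hv1 hv hvc t ht htg with e' | e'
        · exact hne.1 e'
        · exact hne.2 (e'.trans e.symm)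
  have hpcl : ∀ x : G, x ≠ 1 → (∀ u : ℕ, u.Prime → u ∣ cl x → u = p) → p ∣ cl x := by
    intro x hx h
    obtain ⟨d, hd, hdx⟩ := Nat.exists_prime_and_dvd (X.mem_top_cl hx)
    exact h d hd hdx ▸ hdx
  exact hp.not_dvd_one ((X.idx_coprime ha hb).gcd_eq_one ▸ Nat.dvd_gcd
    (hpcl a ha1 fun u hu hua => by_contra fun hup => hallone u hu hup (Or.inl hua))
    (hpcl b hb1 fun u hu hub => by_contra fun hup => hallone u hu hup (Or.inr hub)))

/-- The case `c₁ ∤ c₃`. -/
theorem solvable_of_not_dvd {a b : G} {p i j : ℕ} (hp : p.Prime) (ha1 : a ≠ 1) (hb1 : b ≠ 1)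
    (ha : co a = c₂) (hb : co b = c₃) (hab : a ∈ cent b) (hoa : orderOf a = p ^ i)
    (hob : orderOf b = p ^ j) (hg : Nat.gcd c₂ c₃ ≠ 1) (h13 : ¬ c₁ ∣ c₃) : Group.IsSolvable G := by
  haveI := Fact.mk hp
  have hc3prime : ∀ s : ℕ, s.Prime → s ∣ c₃ → s = p := by
    intro s hs hs3
    by_contra hsp
    haveI := Fact.mk hs
    obtain ⟨x, hx⟩ := exists_prime_orderOf_dvd_card' s (G := cent b) (show s ∣ co b from hb ▸ hs3)
    have hxs : orderOf (x : G) = s := by rw [Subgroup.orderOf_coe, hx]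
    have hx1 : (x : G) ≠ 1 := fun e => by rw [e, orderOf_one] at hxs; exact hs.ne_one hxs.symm
    have hcb : (orderOf (x : G)).Coprime (orderOf b) := by
      rw [hxs, hob]; exact ((Nat.coprime_primes hs hp).2 hsp).pow_right _
    have hca : (orderOf (x : G)).Coprime (orderOf a) := by
      rw [hxs, hoa]; exact ((Nat.coprime_primes hs hp).2 hsp).pow_right _
    rcases X.htype _ hx1 with h | h | h
    · exact h13 (h ▸ hb ▸ co_dvd (X.one_le h hx1 (cent_comm.1 x.2) hcb))
    · exact X.nc h hb hx1 hb1 x.2 hcb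
    · have hcm : (x : G) * b = b * x := (mem_cent.1 x.2).symm
      have hinf := cent_mul_coprime hcm hcb
      have hd : co ((x : G) * b) ∣ c₃ := hb ▸ co_dvd (hinf.le.trans inf_le_right)
      rcases X.htype _ (mul_ne_one_of_coprime hx1 hcm hcb) with h' | h' | h'
      · exact h13 (h' ▸ hd)
      · exact X.h23 (h' ▸ hd)
      · have e1 := eq_of_co (hinf.le.trans inf_le_left) (h'.trans h.symm)
        have e2 := eq_of_co (hinf.le.trans inf_le_right) (h'.trans hb.symm)
        have hax : a ∈ cent (x : G) := e1 ▸ e2.symm ▸ hab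
        exact X.nc ha h ha1 hx1 hax hca.symm
  obtain ⟨γ, hγ⟩ : ∃ γ, c₃ = p ^ γ :=
    ⟨_, Nat.eq_prime_pow_of_unique_prime_dvd X.pos₃.ne' fun {d} hd h => hc3prime d hd h⟩
  have hclpow : ∀ x : G, (∀ t : ℕ, t.Prime → t ≠ p → ¬ t ∣ cl x) → ∃ e, cl x = p ^ e := fun x h =>
    ⟨_, Nat.eq_prime_pow_of_unique_prime_dvd (cl_pos x).ne' fun {d} hd hdx =>
      by_contra fun hdp => h d hd hdp hdx⟩
  have hcl2 : ∀ t : ℕ, t.Prime → t ≠ p → ¬ t ∣ cl a := by
    intro t ht htp h
    have h1 : t * c₂ ∣ Nat.card G := by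
      rw [← ha, ← co_mul_cl a, mul_comm]; exact mul_dvd_mul_left _ h
    rw [← X.hlcm] at h1
    have h2 : t * c₂ ∣ c₃ * c₂ := (h1.trans (Nat.lcm_dvd_mul c₂ c₃)).trans (dvd_of_eq (mul_comm _ _))
    exact htp (hc3prime t ht ((Nat.mul_dvd_mul_iff_right X.pos₂).1 h2))
  have hno3 : ∀ x : G, x ≠ 1 → (orderOf x).Coprime p → co x ≠ c₃ := fun x hx hxp h =>
    hx (orderOf_eq_one_iff.1 (Nat.eq_one_of_dvd_coprimes (hxp.pow_right γ) dvd_rfl
      (hγ ▸ h ▸ orderOf_dvd_co x)))
  -- either every full element has minimal type, or the overlap divides `c₁`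
  by_cases hall : ∀ t : ℕ, t.Prime → t ≠ p → t ∣ Nat.card G →
      ∃ w : G, co w = c₁ ∧ ∀ k, t ^ k ∣ Nat.card G → t ^ k ∣ co w
  · refine solvable_of_primary p hp fun x q k hq hqp hx => ?_
    by_cases hx1 : x = 1
    · exact ⟨0, by rw [pow_zero, cl_eq_one, hx1]; exact one_mem _⟩
    refine hclpow x fun t ht htp htx => ?_
    rcases X.htype x hx1 with h | h | h
    · obtain ⟨w, hw, hfull⟩ := hall t ht htp (htx.trans (Dvd.intro_left _ (co_mul_cl x)))
      exact not_dvd_cl_of_full ht hfull (dvd_of_eq (hw.trans h.symm)) htx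
    · exact hcl2 t ht htp (cl_of_co (h.trans ha.symm) ▸ htx)
    · exact hno3 x hx1 (hx ▸ ((Nat.coprime_primes hq hp).2 hqp).pow_left k) h
  push Not at hall
  obtain ⟨t, ht, htp, htG, hall⟩ := hall
  obtain ⟨w, hw1, ⟨kw, hwo⟩, hwfull⟩ := exists_full ht htG
  have hwp : (orderOf w).Coprime p := hwo ▸ ((Nat.coprime_primes ht hp).2 htp).pow_left kw
  have hw2 : co w = c₂ := by
    rcases X.htype w hw1 with h | h | h
    · obtain ⟨k, hk, hk'⟩ := hall w h
      exact absurd (hwfull k hk) hk'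
    · exact h
    · exact absurd h (hno3 w hw1 hwp)
  obtain ⟨e, -, he⟩ := (Nat.dvd_prime_pow hp).1 ((Nat.gcd_dvd_right c₂ c₃).trans (dvd_of_eq hγ))
  have he0 : e ≠ 0 := fun h => hg (by rw [he, h, pow_zero])
  have hg1 : Nat.gcd c₂ c₃ ∣ c₁ := by
    set T := cent w ⊓ cent b with hT
    have hTc : Nat.card T = p ^ e := (X.card_inf hw2 hb).trans he
    have hTp : IsPGroup p T := IsPGroup.of_card hTc
    haveI : Nontrivial T := Finite.one_lt_card_iff_nontrivial.1 (hTc ▸ Nat.one_lt_pow he0 hp.one_lt)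
    haveI := hTp.center_nontrivial
    obtain ⟨c, hc⟩ := exists_ne (1 : center T)
    set v := ((c : T) : G) with hv
    have hv1 : v ≠ 1 := fun h => hc (Subtype.ext (Subtype.ext h))
    have hvw : v ∈ cent w := (c : T).2.1
    have hvb : v ∈ cent b := (c : T).2.2
    obtain ⟨kv, hkv⟩ := IsPGroup.iff_orderOf.1 hTp (c : T)
    rw [← Subgroup.orderOf_coe, ← hv] at hkv
    have hco : (orderOf w).Coprime (orderOf v) := hkv ▸ hwp.pow_right kv
    have hcm : w * v = v * w := mem_cent.1 hvw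
    have hinf := cent_mul_coprime hcm hco
    have hd : co (w * v) ∣ c₂ := hw2 ▸ co_dvd (hinf.le.trans inf_le_left)
    have hTle : T ≤ cent (w * v) := by
      rw [hinf]
      refine le_inf inf_le_left fun u hu => mem_cent.2 ?_
      exact (congrArg Subtype.val (mem_center_iff.1 c.2 ⟨u, hu⟩)).symm
    rcases X.htype _ (mul_ne_one_of_coprime hw1 hcm hco) with h | h | h
    · rw [← X.card_inf hw2 hb, ← h]; exact card_dvd_of_le hTle
    · exfalso
      have e1 := eq_of_co (hinf.le.trans inf_le_left) (h.trans hw2.symm)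
      have e2 := X.eq_of_max hv1 (hinf.le.trans inf_le_right) (Or.inl h)
      have hbw : b ∈ cent w := e1 ▸ e2.symm ▸ cent_comm.1 hvb
      exact X.nc hw2 hb hw1 hb1 (cent_comm.1 hbw)
        (hob ▸ hwp.pow_right j)
    · exact absurd (h ▸ hd) X.h32
  -- `p`-subgroups of centralisers not of type 3
  have hsmall : ∀ (v : G) (S : Subgroup G), v ≠ 1 → co v ≠ c₃ → IsPGroup p S → S ≤ cent v →
      Nat.card S ∣ Nat.gcd c₂ c₃ := by
    intro v S hv1 hv hS hSv
    obtain ⟨n, hn⟩ := IsPGroup.iff_card.1 hS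
    have h2 : Nat.card S ∣ c₂ := by
      refine (card_dvd_of_le hSv).trans ?_
      change co v ∣ c₂
      rcases X.htype v hv1 with h | h | h
      · exact h ▸ X.hd
      · exact dvd_of_eq h
      · exact absurd h hv
    refine Nat.dvd_gcd h2 ?_
    rw [hn, hγ]
    refine pow_dvd_pow p (not_lt.1 fun hlt => X.h32 ?_)
    rw [hγ]
    exact (pow_dvd_pow p hlt.le).trans (hn ▸ h2)
  -- the normal closure of `a`
  set N := normalClosure ({a} : Set G) with hN
  have hNb : N ≤ cent b := by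
    rw [hN, Subgroup.normalClosure]
    refine (Subgroup.closure_le _).2 fun x hx => ?_
    obtain ⟨y, hy, hyx⟩ := Group.mem_conjugatesOfSet_iff.1 hx
    obtain rfl : y = a := hy
    obtain ⟨g, rfl⟩ := isConj_iff.1 hyx
    obtain ⟨β, hβ, α, hα, rfl⟩ := exists_mul_of_coprime (A := cent b) (B := cent y)
      (X.idx_coprime ha hb).symm g
    have h1 : α * y * α⁻¹ = y := mul_inv_eq_iff_eq_mul.2 (mem_cent.1 hα).symm
    rw [show β * α * y * (β * α)⁻¹ = β * (α * y * α⁻¹) * β⁻¹ by group, h1]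
    exact mul_mem (mul_mem hβ hab) (inv_mem hβ)
  haveI hNn : N.Normal := normalClosure_normal
  have hNp : IsPGroup p N := (IsPGroup.of_card (n := γ) (hb.trans hγ)).to_le hNb
  have hN1 : N ≠ ⊥ := fun h => ha1 (mem_bot.1 (h ▸ subset_normalClosure rfl))
  have hcentr : ∀ x : G, x ≠ 1 → (orderOf x).Coprime p → ∀ c ∈ N, Commute x c := by
    intro x hx1 hxp
    obtain ⟨T⟩ := (inferInstance : Nonempty (Sylow p (cent x)))
    set R := (T : Subgroup (cent x)).map (cent x).subtype with hR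
    have hRp : IsPGroup p R := T.2.map _
    have hRx : R ≤ cent x := map_subtype_le _
    have hRc : Nat.card R = Nat.gcd c₂ c₃ := by
      refine Nat.dvd_antisymm (hsmall x R hx1 (hno3 x hx1 hxp) hRp hRx) ?_
      have h1 : Nat.gcd c₂ c₃ ∣ co x := by
        rcases X.htype x hx1 with h | h | h
        · exact h ▸ hg1
        · exact h ▸ Nat.gcd_dvd_left _ _
        · exact absurd h (hno3 x hx1 hxp)
      rw [hR, card_map_of_injective (cent x).subtype_injective, T.card_eq_multiplicity, he]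
      exact pow_dvd_pow p ((hp.pow_dvd_iff_le_factorization (co_pos x).ne').1 (he ▸ h1))
    refine Balance.commute_of_commute_fixed hNp hRp (fun r _ => ?_) ?_ hxp
      (fun r hr => mem_cent.1 (hRx hr)) fun c hc hcR => ?_
    · rw [normalizer_eq_top]; exact mem_top r
    · rw [normalizer_eq_top]; exact mem_top x
    haveI : Nontrivial R := Finite.one_lt_card_iff_nontrivial.1
      (hRc ▸ he ▸ Nat.one_lt_pow he0 hp.one_lt)
    haveI := hRp.center_nontrivial
    obtain ⟨d, hd⟩ := exists_ne (1 : center R)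
    set v := ((d : R) : G) with hv
    have hv1 : v ≠ 1 := fun h => hd (Subtype.ext (Subtype.ext h))
    obtain ⟨kv, hkv⟩ := IsPGroup.iff_orderOf.1 hRp (d : R)
    rw [← Subgroup.orderOf_coe, ← hv] at hkv
    have hv3 : co v ≠ c₃ := fun h => hx1 (orderOf_eq_one_iff.1 (Nat.eq_one_of_dvd_coprimes
      (hxp.pow_right γ) dvd_rfl (hγ ▸ h ▸ Subgroup.orderOf_dvd_natCard (cent v)
        (cent_comm.1 (hRx (d : R).2)))))
    have hRv : R ≤ cent v := fun u hu => mem_cent.2
      (congrArg Subtype.val (mem_center_iff.1 d.2 ⟨u, hu⟩)).symm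
    set S := (N ⊓ cent v) ⊔ R with hS
    have hSv : S ≤ cent v := sup_le inf_le_right hRv
    have hSp : IsPGroup p S :=
      (hNp.to_le inf_le_left).to_sup_of_normal_left' hRp (hRv.trans fun u hu =>
        mem_normalizer_fintype fun n hn => ⟨hNn.conj_mem n hn.1 u,
          (cent v).mul_mem ((cent v).mul_mem hu hn.2) ((cent v).inv_mem hu)⟩)
    have hSR : R = S := eq_of_le_of_card_ge le_sup_right
      (hRc ▸ Nat.le_of_dvd (Nat.gcd_pos_of_pos_left _ X.pos₂) (hsmall v S hv1 hv3 hSp hSv))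
    have hcR' : c ∈ R := hSR ▸ mem_sup_left ⟨hc, cent_comm.1 (mem_cent.2 (hcR v (d : R).2).eq.symm)⟩
    exact mem_cent.1 (hRx hcR')
  obtain ⟨P, hP⟩ := hNp.exists_le_sylow
  haveI : Group.IsNilpotent (P : Subgroup G) := P.isPGroup'.isNilpotent
  have hbot := Solvable.inf_center_ne_bot (N := N.subgroupOf (P : Subgroup G)) fun h => hN1 <| by
    rwa [subgroupOf_eq_bot, disjoint_iff, inf_eq_left.2 hP] at h
  obtain ⟨zc, hzc⟩ := Subgroup.ne_bot_iff_exists_ne_one.1 hbot
  set z := (((zc : (P : Subgroup G)) : G)) with hz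
  have hz1 : z ≠ 1 := fun h => hzc (Subtype.ext (Subtype.ext h))
  exfalso
  refine X.mem_top_cl hz1 (Nat.eq_one_iff_not_exists_prime_dvd.2 fun q hq hqz => ?_)
  haveI := Fact.mk hq
  obtain ⟨Q, hQ⟩ : ∃ Q : Sylow q G, (Q : Subgroup G) ≤ cent z := by
    by_cases hqp : q = p
    · subst hqp
      exact ⟨P, fun u hu => mem_cent.2
        (congrArg Subtype.val (mem_center_iff.1 zc.2.2 ⟨u, hu⟩)).symm⟩
    obtain ⟨Q⟩ := (inferInstance : Nonempty (Sylow q G))
    refine ⟨Q, fun u hu => ?_⟩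
    by_cases hu1 : u = 1
    · exact hu1 ▸ one_mem _
    obtain ⟨k, hk⟩ := IsPGroup.iff_orderOf.1 Q.2 ⟨u, hu⟩
    rw [Subgroup.orderOf_mk] at hk
    exact mem_cent.2 (hcentr u hu1 (hk ▸ ((Nat.coprime_primes hq hp).2 hqp).pow_left k)
      z zc.2.1).eq.symm
  exact Q.not_dvd_index (hqz.trans (index_dvd_of_le hQ))

/-- A common factor of the maximal centraliser orders. -/
theorem solvable_of_overlap (hg : Nat.gcd c₂ c₃ ≠ 1) : Group.IsSolvable G := by
  rcases X.exists_pair hg with h | ⟨a, b, p, i, j, hp, ha1, hb1, ha, hb, hab, hoa, hob⟩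
  · exact h
  by_cases h13 : c₁ ∣ c₃
  · exact X.solvable_of_dvd hp ha1 hb1 ha hb hab hoa hob h13
  · exact X.solvable_of_not_dvd hp ha1 hb1 ha hb hab hoa hob hg h13

end Ctx

end Cfsg.Agent.ClassSize.CentrelessThree
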